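import Cfsg.Agent.Lib.Tech46.CoprimeGen
import Cfsg.Agent.Lib.Components.Local
import Cfsg.Agent.Lib.FusionNormal.SmallChar
import Cfsg.Agent.Lib.Techniques.Basic
import Cfsg.Prelude.Def_ClassificationK
import Cfsg.Prelude.Def_CaseTheorems
import Cfsg.Prelude.Def_Local

/-!
# 2-subgroups normalized by an elementary abelian `p`-group of largest rank
-/

set_option autoImplicit false

namespace Cfsg.Tech46.Sympl

open Subgroup
open scoped commutatorElement

/-- A characteristic subgroup of class at most two and exponent `p` detecting coprime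
automorphisms, `p` odd. -/
theorem exists_classTwo_char {P : Type*} [Group P] [Finite P] {p : ℕ} [Fact p.Prime] (hp : p ≠ 2)
    (hP : IsPGroup p P) :
    ∃ W : Subgroup P, W.Characteristic ∧ (∀ x ∈ W, x ^ p = 1) ∧
      (∀ x ∈ W, ∀ y ∈ W, ⁅x, y⁆ ∈ centralizer (W : Set P)) ∧
      ∀ b : MulAut P, (orderOf b).Coprime p → (∀ x ∈ W, b x = x) → b = 1 := by
  obtain ⟨H, hH, hCH, hcomm, hpow⟩ := CfsgLib.PGroup.exists_critical hP
  have hchar : ∀ (φ : P ≃* P) (x : P), x ∈ H → φ x ∈ H := fun φ x hx =>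
    (Subgroup.characteristic_iff_le_comap.mp hH φ) hx
  have hcen : ∀ y x : H, ⁅y, x⁆ ∈ Subgroup.center H ∧ ⁅y, x⁆ ^ p = 1 := by
    intro y x
    have h1 : ⁅y, x⁆ ∈ Subgroup.center H := Subgroup.mem_center_iff.mpr fun g =>
      Subtype.ext ((hcomm y x x.2).2 g g.2)
    refine ⟨h1, ?_⟩
    rw [← CfsgLib.PGroup.commutatorElement_pow_right_of_central h1, commutatorElement_eq_one_iff_mul_comm]
    exact Subtype.ext ((hpow x x.2).2 y y.2)
  have hmul : ∀ x y : H, x ^ p = 1 → y ^ p = 1 → (x * y) ^ p = 1 := by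
    intro x y hx hy
    rw [CfsgLib.PGroup.mul_pow_of_central (hcen y x).1, hx, hy, one_mul, one_mul]
    obtain ⟨q, hq⟩ := (Fact.out : p.Prime).dvd_choose_self two_ne_zero
      (lt_of_le_of_ne (Fact.out : p.Prime).two_le (Ne.symm hp))
    rw [hq, pow_mul, (hcen y x).2, one_pow]
  let W : Subgroup P :=
    { carrier := {x | x ∈ H ∧ x ^ p = 1}
      one_mem' := ⟨H.one_mem, one_pow _⟩
      mul_mem' := fun {x y} hx hy => ⟨H.mul_mem hx.1 hy.1, congrArg Subtype.val
        (hmul ⟨x, hx.1⟩ ⟨y, hy.1⟩ (Subtype.ext hx.2) (Subtype.ext hy.2))⟩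
      inv_mem' := fun {x} hx => ⟨H.inv_mem hx.1, by rw [inv_pow, hx.2, inv_one]⟩ }
  refine ⟨W, ?_, fun x hx => hx.2, fun x hx y hy => ?_, fun b hb hW => ?_⟩
  · rw [Subgroup.characteristic_iff_le_comap]
    exact fun φ x hx => ⟨hchar φ x hx.1, show φ x ^ p = 1 by rw [← map_pow, hx.2, map_one]⟩
  · rw [mem_centralizer_iff]
    intro w hw
    exact (hcomm x y hy.1).2 w hw.1
  · have hfixH : ∀ x ∈ H, b x = x := by
      refine CfsgLib.FusionNormal.fix_of_fix_small b hb H (hP.to_subgroup H) (hchar b)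
        fun x hx hs => hW x ⟨hx, ?_⟩
      rcases hs with hs | ⟨h2, hs⟩
      · exact hs
      · exact absurd h2 hp
    refine MulEquiv.ext fun x => ?_
    refine CfsgLib.FusionNormal.fix_of_step hP b hb (hfixH _ (hCH ?_))
    intro h hh
    have hn : H.Normal := inferInstance
    have h3 := hfixH _ (hn.conj_mem h hh x)
    rw [map_mul, map_mul, map_inv, hfixH h hh] at h3
    show h * (x⁻¹ * b x) = x⁻¹ * b x * h
    calc h * (x⁻¹ * b x) = x⁻¹ * (x * h * x⁻¹) * b x := by group
      _ = x⁻¹ * (b x * h * (b x)⁻¹) * b x := by rw [h3]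
      _ = x⁻¹ * b x * h := by group

variable {G : Type*} [Group G]

theorem elementary_comm {p : ℕ} {A : Subgroup G} (hA : Cfsg.IsElementaryAbelian p A) {a b : G}
    (ha : a ∈ A) (hb : b ∈ A) : a * b = b * a := by
  haveI := hA.1
  exact congrArg Subtype.val (mul_comm' (⟨a, ha⟩ : A) ⟨b, hb⟩)

theorem elementary_le {p : ℕ} {A B : Subgroup G} (hB : Cfsg.IsElementaryAbelian p B) (h : A ≤ B) :
    Cfsg.IsElementaryAbelian p A :=
  ⟨⟨⟨fun a b => Subtype.ext (elementary_comm hB (h a.2) (h b.2))⟩⟩, fun a ha => hB.2 a (h ha)⟩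

theorem elementary_isPGroup {p : ℕ} {A : Subgroup G} (hA : Cfsg.IsElementaryAbelian p A) :
    IsPGroup p A :=
  fun a => ⟨1, Subtype.ext (by rw [pow_one]; simpa using hA.2 a.1 a.2)⟩

theorem elementary_sup_zpowers {p : ℕ} {A : Subgroup G} (hA : Cfsg.IsElementaryAbelian p A) {x : G}
    (hx : x ^ p = 1) (hc : x ∈ centralizer (A : Set G)) :
    Cfsg.IsElementaryAbelian p (A ⊔ zpowers x : Subgroup G) := by
  have h1 : A ≤ centralizer (A : Set G) := fun a ha =>
    mem_centralizer_iff.mpr fun b hb => elementary_comm hA hb ha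
  have h2 : A ⊔ zpowers x ≤ centralizer (A : Set G) := sup_le h1 (zpowers_le.mpr hc)
  have h3 : A ⊔ zpowers x ≤ centralizer ((A ⊔ zpowers x : Subgroup G) : Set G) := by
    refine le_centralizer_iff.mp (sup_le (le_centralizer_iff.mp h2) (zpowers_le.mpr ?_))
    rw [mem_centralizer_iff]
    intro y hy
    exact (show y ∈ centralizer ({x} : Set G) from
      (sup_le (fun a ha => mem_centralizer_singleton_iff.mpr (mem_centralizer_iff.mp hc a ha))
        (zpowers_le.mpr (mem_centralizer_singleton_iff.mpr rfl)) : A ⊔ zpowers x ≤ _) hy)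
      |> mem_centralizer_singleton_iff.mp
  refine ⟨le_centralizer_iff_isMulCommutative.mp h3, fun y hy => ?_⟩
  have hAx : A ≤ normalizer ((zpowers x : Subgroup G) : Set G) :=
    (le_centralizer_iff.mp (zpowers_le.mpr hc)).trans (centralizer_le_normalizer _)
  obtain ⟨a, ha, b, hb, rfl⟩ := CfsgLib.Techniques.exists_mul_of_mem_sup hAx hy
  obtain ⟨k, rfl⟩ := mem_zpowers_iff.mp hb
  have hax : Commute a x := mem_centralizer_iff.mp hc a ha
  have hab : Commute a (x ^ k) := hax.zpow_right k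
  rw [hab.mul_pow, hA.2 a ha, one_mul, ← zpow_natCast, ← zpow_mul, mul_comm, zpow_mul, zpow_natCast,
    hx, one_zpow]

variable [Finite G]

theorem mul_card_le_of_lt {p : ℕ} [hp : Fact p.Prime] {X Y : Subgroup G} (hY : IsPGroup p Y)
    (h : X < Y) : p * Nat.card X ≤ Nat.card Y := by
  obtain ⟨m, hm⟩ := IsPGroup.iff_card.mp (hY.to_le h.le)
  obtain ⟨n, hn⟩ := IsPGroup.iff_card.mp hY
  have hlt : Nat.card X < Nat.card Y := by
    by_contra hc
    exact h.ne (eq_of_le_of_card_ge h.le (not_lt.mp hc))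
  rw [hm, hn] at hlt ⊢
  have := (Nat.pow_lt_pow_iff_right hp.out.one_lt).mp hlt
  rw [← pow_succ']
  exact Nat.pow_le_pow_right hp.out.pos this

/-- No 2-local subgroup contains an elementary abelian `p`-subgroup of order more than `p ^ n`. -/
theorem false_of_local {p n : ℕ} (hmax : Cfsg.TwoLocalPRankLE p n G) {u : G} (hu : orderOf u = 2)
    {E : Subgroup G} (hE : Cfsg.IsElementaryAbelian p E) (hEu : E ≤ centralizer ({u} : Set G))
    (hbig : p ^ n < Nat.card E) : False := by
  set H := normalizer ((zpowers u : Subgroup G) : Set G)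
  have h2 : IsPGroup 2 (zpowers u) :=
    IsPGroup.of_card (n := 1) (by rw [Nat.card_zpowers, hu, pow_one])
  have hne : zpowers u ≠ ⊥ := by
    rw [Ne, zpowers_eq_bot]
    rintro rfl
    rw [orderOf_one] at hu
    omega
  have hEH : E ≤ H := by
    refine hEu.trans ((le_centralizer_iff.mp (zpowers_le.mpr ?_)).trans (centralizer_le_normalizer _))
    rw [mem_centralizer_iff]
    exact fun c hc => mem_centralizer_singleton_iff.mp hc
  have hloc : Cfsg.IsTwoLocal H := ⟨zpowers u, h2, hne, rfl⟩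
  have := hmax H hloc (E.subgroupOf H) ⟨⟨fun a b => Subtype.ext (Subtype.ext
    (elementary_comm hE (mem_subgroupOf.mp a.2) (mem_subgroupOf.mp b.2)))⟩⟩
    (fun a ha => Subtype.ext (by simpa using hE.2 _ (mem_subgroupOf.mp ha)))
  rw [Nat.card_congr (subgroupOfEquivOfLe hEH).toEquiv] at this
  omega

theorem isCyclic_of_unique_involution {H : Type*} [CommGroup H] [Finite H] (hH : IsPGroup 2 H)
    (h : ∀ a b : H, orderOf a = 2 → orderOf b = 2 → a = b) : IsCyclic H := by
  classical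
  suffices key : ∀ (m : ℕ) (K : Subgroup H), Nat.card K ≤ m → ∃ x : H, x ∈ K ∧ K ≤ zpowers x by
    obtain ⟨x, -, hx⟩ := key _ ⊤ le_rfl
    exact ⟨⟨x, fun g => mem_zpowers_iff.mp (hx (mem_top g))⟩⟩
  intro m
  induction m with
  | zero =>
    intro K hK
    have := Nat.card_pos (α := K)
    omega
  | succ m ih =>
    intro K hK
    by_cases hK1 : K = ⊥
    · exact ⟨1, one_mem K, by rw [hK1]; exact bot_le⟩
    -- squares
    set K2 := K.map (powMonoidHom 2 : H →* H) with hK2
    have hle : K2 ≤ K := by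
      rintro _ ⟨k, hk, rfl⟩
      exact pow_mem hk 2
    haveI : Nontrivial K := (nontrivial_iff_ne_bot K).mpr hK1
    obtain ⟨j, hj, hcard⟩ := (hH.to_subgroup K).nontrivial_iff_card.mp inferInstance
    obtain ⟨z, hz⟩ := exists_prime_orderOf_dvd_card' (G := K) 2 (hcard ▸ dvd_pow_self 2 hj.ne')
    rw [← Subgroup.orderOf_coe] at hz
    have hlt : K2 ≠ K := by
      intro e
      have hinj : Function.Injective (fun k : K => (⟨(k : H) ^ 2, pow_mem k.2 2⟩ : K)) := by
        apply Finite.injective_iff_surjective.mpr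
        rintro ⟨y, hy⟩
        rw [← e] at hy
        obtain ⟨k, hk, hky⟩ := hy
        exact ⟨⟨k, hk⟩, Subtype.ext hky⟩
      have h1 := @hinj z 1 (Subtype.ext (by
        have := pow_orderOf_eq_one (z : H)
        rw [hz] at this
        simpa using this))
      rw [h1, OneMemClass.coe_one, orderOf_one] at hz
      omega
    have hcard2 : Nat.card K2 ≤ m := by
      have : Nat.card K2 < Nat.card K := by
        by_contra hc
        exact hlt (eq_of_le_of_card_ge hle (not_lt.mp hc))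
      omega
    obtain ⟨y, hy, hgen⟩ := ih K2 hcard2
    obtain ⟨x, hx, hxy⟩ := hy
    by_cases hx1 : x = 1
    · refine ⟨z, z.2, fun g hg => ?_⟩
      have hg2 : g ^ 2 = 1 := by
        have h2 := hgen ⟨g, hg, rfl⟩
        rw [← hxy, hx1, map_one, zpowers_one_eq_bot, mem_bot] at h2
        exact h2
      by_cases hg1 : g = 1
      · rw [hg1]; exact one_mem _
      · rw [h g z (orderOf_eq_prime hg2 hg1) hz]; exact mem_zpowers _
    refine ⟨x, hx, fun g hg => ?_⟩
    obtain ⟨k, hk⟩ := mem_zpowers_iff.mp (hgen ⟨g, hg, rfl⟩)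
    have hsq : (g * (x ^ k)⁻¹) ^ 2 = 1 := by
      rw [← hxy] at hk
      simp only [powMonoidHom_apply] at hk
      rw [mul_pow, inv_pow, ← zpow_natCast (x ^ k) 2, ← zpow_mul, mul_comm k, zpow_mul, zpow_natCast,
        hk, mul_inv_cancel]
    have hzx : g * (x ^ k)⁻¹ ∈ zpowers x := by
      by_cases h1 : g * (x ^ k)⁻¹ = 1
      · rw [h1]; exact one_mem _
      obtain ⟨i, hi⟩ := IsPGroup.iff_orderOf.mp hH x
      have hi0 : i ≠ 0 := fun e => hx1 (orderOf_eq_one_iff.mp (by rw [hi, e, pow_zero]))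
      have ho : orderOf (x ^ 2 ^ (i - 1)) = 2 := by
        rw [orderOf_pow_of_dvd (pow_ne_zero _ two_ne_zero) (hi ▸ pow_dvd_pow 2 (Nat.sub_le i 1)), hi,
          Nat.pow_div (Nat.sub_le i 1) two_pos]
        rw [show i - (i - 1) = 1 by omega, pow_one]
      rw [h _ _ (orderOf_eq_prime hsq h1) ho]
      exact pow_mem (mem_zpowers x) _
    have := mul_mem hzx (zpow_mem (mem_zpowers x) k)
    simpa using this

variable {p : ℕ} [hpp : Fact p.Prime]

/-- The detecting subgroup inside `C(A)`. -/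
theorem exists_detecting (hp : p ≠ 2) (A : Subgroup G)
    (hF : IsPGroup p (Cfsg.generalizedFittingSubgroup ↥(centralizer (A : Set G)))) :
    ∃ K : Subgroup G, K ≤ centralizer (A : Set G) ∧ IsPGroup p K ∧ (∀ x ∈ K, x ^ p = 1) ∧
      (∀ x ∈ K, ∀ y ∈ K, ∀ z ∈ K, ⁅x, y⁆ * z = z * ⁅x, y⁆) ∧
      centralizer (A : Set G) ≤ normalizer (K : Set G) ∧
      ∀ g ∈ centralizer (A : Set G), (orderOf g).Coprime p → g ∈ centralizer (K : Set G) → g = 1 := by
  set C := centralizer (A : Set G)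
  set P0 := Cfsg.pCore p C
  haveI : P0.Normal := Cfsg.pCore_normal p C
  have hP0 : IsPGroup p P0 := CfsgLib.PCore.pCore_isPGroup
  have hFeq : Cfsg.generalizedFittingSubgroup C = P0 :=
    le_antisymm (CfsgLib.PCore.le_pCore CfsgLib.Components.generalizedFitting_normal hF)
      ((CfsgLib.Fitting.pCore_le_fitting hpp.out).trans CfsgLib.Components.fitting_le_generalizedFitting)
  have hself := CfsgLib.Components.centralizer_pCore_le_of_generalizedFitting_eq hFeq
  obtain ⟨W, hWc, hWexp, hWcl, hWdet⟩ := exists_classTwo_char hp hP0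
  haveI := hWc
  haveI : (W.map P0.subtype).Normal := inferInstance
  refine ⟨(W.map P0.subtype).map C.subtype, map_subtype_le _, ((hP0.to_subgroup W).map _).map _, ?_, ?_,
    ?_, ?_⟩
  · rintro _ ⟨_, ⟨w, hw, rfl⟩, rfl⟩
    rw [← map_pow, ← map_pow, hWexp w hw, map_one, map_one]
  · rintro _ ⟨_, ⟨x, hx, rfl⟩, rfl⟩ _ ⟨_, ⟨y, hy, rfl⟩, rfl⟩ _ ⟨_, ⟨z, hz, rfl⟩, rfl⟩
    rw [← map_commutatorElement, ← map_commutatorElement, ← map_mul, ← map_mul, ← map_mul, ← map_mul,
      mem_centralizer_iff.mp (hWcl x hx y hy) z hz]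
  · rw [le_normalizer_iff]
    rintro g hg _ ⟨w, hw, rfl⟩
    exact ⟨⟨g, hg⟩ * w * ⟨g, hg⟩⁻¹, (inferInstance : (W.map P0.subtype).Normal).conj_mem w hw _, rfl⟩
  · intro g hg hco hcent
    set g' : C := ⟨g, hg⟩
    set b : MulAut P0 := MulAut.conjNormal g'
    have hb : (orderOf b).Coprime p := Nat.Coprime.coprime_dvd_left
      ((orderOf_map_dvd _ g').trans (dvd_of_eq (orderOf_submonoid g').symm)) hco
    have hb1 : b = 1 := hWdet b hb fun w hw => by
      apply Subtype.ext
      rw [MulAut.conjNormal_apply]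
      apply Subtype.ext
      have h := mem_centralizer_iff.mp hcent ((w : C) : G) ⟨_, ⟨w, hw, rfl⟩, rfl⟩
      show g * ((w : C) : G) * g⁻¹ = ((w : C) : G)
      rw [← h, mul_inv_cancel_right]
    have hmem : g' ∈ centralizer (P0 : Set C) := by
      rw [mem_centralizer_iff]
      intro y hy
      have h := congrArg (fun f : MulAut P0 => ((f ⟨y, hy⟩ : P0) : C)) hb1
      simp only [b, MulAut.conjNormal_apply, MulAut.one_apply] at h
      calc y * g' = g' * y * g'⁻¹ * g' := by rw [h]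
        _ = g' * y := inv_mul_cancel_right _ _
    obtain ⟨k, hk⟩ := IsPGroup.iff_orderOf.mp hP0 ⟨g', hself hmem⟩
    rw [Subgroup.orderOf_mk] at hk
    have : orderOf g = p ^ k := by
      rw [← hk]; exact orderOf_submonoid g'
    rw [this] at hco
    exact orderOf_eq_one_iff.mp (this.trans ((Nat.coprime_self _).mp
      (hco.pow_right k)))

variable {n : ℕ}

theorem index_two_mul_mem {X U : Subgroup G} (hUX : U ≤ X) (h : Nat.card X = 2 * Nat.card U) {a b : G}
    (ha : a ∈ X) (hb : b ∈ X) : a * b ∈ U ↔ (a ∈ U ↔ b ∈ U) := by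
  have hidx : (U.subgroupOf X).index = 2 := by
    have h1 := (U.subgroupOf X).card_mul_index
    rw [Nat.card_congr (subgroupOfEquivOfLe hUX).toEquiv, h, mul_comm 2] at h1
    exact Nat.eq_of_mul_eq_mul_left Nat.card_pos h1
  exact mul_mem_iff_of_index_two hidx (a := (⟨a, ha⟩ : X)) (b := ⟨b, hb⟩)

/-- A four-group or larger elementary 2-subgroup of `C(A)` has order 4. -/
theorem card_le_four (hp : p ≠ 2) (hn : 1 ≤ n) (hmax : Cfsg.TwoLocalPRankLE p n G) {A : Subgroup G}
    (hA : Cfsg.IsElementaryAbelian p A) (hAc : Nat.card A = p ^ (n - 1))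
    (hF : IsPGroup p (Cfsg.generalizedFittingSubgroup ↥(centralizer (A : Set G)))) {X : Subgroup G}
    (hX : Cfsg.IsElementaryAbelian 2 X) (hXA : X ≤ centralizer (A : Set G)) : Nat.card X ≤ 4 := by
  by_contra hbig
  obtain ⟨K, hKA, hKp, hKexp, hKcl, hKn, hKdet⟩ := exists_detecting hp A hF
  haveI : Fact (Nat.Prime 2) := ⟨Nat.prime_two⟩
  have hXp := elementary_isPGroup hX
  have hinvX : ∀ v ∈ X, v⁻¹ = v := fun v hv =>
    inv_eq_of_mul_eq_one_right (by rw [← sq]; exact hX.2 v hv)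
  have hKX : X ≤ normalizer (K : Set G) := hXA.trans hKn
  have hone : ∀ x ∈ K, x = x⁻¹ → x = 1 := by
    intro x hx h
    have h2 : orderOf x ∣ 2 := orderOf_dvd_of_pow_eq_one (by rw [sq]; nth_rw 1 [h]; exact inv_mul_cancel x)
    have h1 : orderOf x ∣ p := orderOf_dvd_of_pow_eq_one (hKexp x hx)
    exact orderOf_eq_one_iff.mp (Nat.eq_one_of_dvd_coprimes
      ((Nat.coprime_primes hpp.out Nat.prime_two).mpr hp) h1 h2)
  have hcardU : ∀ U : Subgroup G, U ≤ X → Nat.card X ≤ 2 * Nat.card U → U ≠ X →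
      Nat.card X = 2 * Nat.card U := fun U hU h hne =>
    le_antisymm h (mul_card_le_of_lt hXp (lt_of_le_of_ne hU hne))
  -- moved fixed points give inverted elements
  have hinv : ∀ U : Subgroup G, U ≤ X → Nat.card X ≤ 2 * Nat.card U →
      ¬ K ⊓ centralizer (U : Set G) ≤ centralizer (X : Set G) →
      Nat.card X = 2 * Nat.card U ∧ ∃ x ∈ K, x ≠ 1 ∧ (∀ u ∈ U, u * x * u⁻¹ = x) ∧
        (∀ w ∈ X, w ∉ U → w * x * w⁻¹ = x⁻¹) := by
    intro U hU hUc hnle
    have hne : U ≠ X := fun e => hnle (e ▸ inf_le_right)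
    have hidx := hcardU U hU hUc hne
    refine ⟨hidx, ?_⟩
    obtain ⟨k, ⟨hk, hkU⟩, hkX⟩ := SetLike.not_le_iff_exists.mp hnle
    obtain ⟨v, hv, hvk⟩ : ∃ v ∈ X, v * k * v⁻¹ ≠ k := by
      by_contra h
      push Not at h
      exact hkX (mem_centralizer_iff.mpr fun v hv => mul_inv_eq_iff_eq_mul.mp (h v hv))
    have hkfix : ∀ u ∈ U, u * k * u⁻¹ = k := fun u hu =>
      mul_inv_eq_iff_eq_mul.mpr (mem_centralizer_iff.mp hkU u hu)
    have hvU : v ∉ U := fun h => hvk (hkfix v h)
    set x := v * k * v⁻¹ * k⁻¹ with hx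
    have hxK : x ∈ K := mul_mem ((mem_normalizer_iff.mp (hKX hv) k).mp hk) (inv_mem hk)
    have hxv : v * x * v⁻¹ = x⁻¹ := by
      rw [hx]
      calc v * (v * k * v⁻¹ * k⁻¹) * v⁻¹ = (v * v) * k * (v⁻¹ * v⁻¹) * (v * k⁻¹ * v⁻¹) := by group
        _ = k * (v * k⁻¹ * v⁻¹) := by
          rw [show v⁻¹ * v⁻¹ = (v * v)⁻¹ by group, ← sq, hX.2 v hv]; simp
        _ = _ := by group
    have hxU : ∀ u ∈ U, u * x * u⁻¹ = x := by
      intro u hu
      have huv : u * v = v * u := elementary_comm hX (hU hu) hv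
      calc u * (v * k * v⁻¹ * k⁻¹) * u⁻¹ = (u * v) * k * (u * v)⁻¹ * (u * k⁻¹ * u⁻¹) := by group
        _ = v * (u * k * u⁻¹) * v⁻¹ * (u * k * u⁻¹)⁻¹ := by rw [huv]; group
        _ = _ := by rw [hkfix u hu]
    refine ⟨x, hxK, fun h1 => hvk (mul_inv_eq_one.mp h1), hxU, fun w hw hwU => ?_⟩
    have hwv : w * v ∈ U :=
      (index_two_mul_mem hU hidx hw hv).mpr ⟨fun h => absurd h hwU, fun h => absurd h hvU⟩
    calc w * x * w⁻¹ = (w * v) * (v⁻¹ * x * v⁻¹⁻¹) * (w * v)⁻¹ := by group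
      _ = (w * v) * x⁻¹ * (w * v)⁻¹ := by rw [hinvX v hv, hxv]
      _ = ((w * v) * x * (w * v)⁻¹)⁻¹ := by group
      _ = x⁻¹ := by rw [hxU _ hwv]
  -- at most one hyperplane has moved fixed points
  have hall : ∀ U1 : Subgroup G, U1 ≤ X → Nat.card X ≤ 2 * Nat.card U1 →
      ¬ K ⊓ centralizer (U1 : Set G) ≤ centralizer (X : Set G) →
      ∀ U2 : Subgroup G, U2 ≤ X → Nat.card X ≤ 2 * Nat.card U2 →
      ¬ K ⊓ centralizer (U2 : Set G) ≤ centralizer (X : Set G) → U2 = U1 := by
    intro U1 hU1 h1 hn1 U2 hU2 h2 hn2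
    by_contra hne
    obtain ⟨hi1, x, hxK, hx1, hxf, hxi⟩ := hinv U1 hU1 h1 hn1
    obtain ⟨hi2, y, hyK, hy1, hyf, hyi⟩ := hinv U2 hU2 h2 hn2
    obtain ⟨v1, hv12, hv11⟩ : ∃ v ∈ U2, v ∉ U1 := by
      refine SetLike.not_le_iff_exists.mp fun h => hne (eq_of_le_of_card_ge h ?_)
      omega
    obtain ⟨v2, hv21, hv22⟩ : ∃ v ∈ U1, v ∉ U2 := by
      refine SetLike.not_le_iff_exists.mp fun h => hne (eq_of_le_of_card_ge h ?_).symm
      omega
    have hw1 : v1 * v2 ∉ U1 := fun h => hv11 (by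
      have := mul_mem h (inv_mem hv21); simpa using this)
    have hw2 : v1 * v2 ∉ U2 := fun h => hv22 (by
      have := mul_mem (inv_mem hv12) h; simpa using this)
    have hwX : v1 * v2 ∈ X := mul_mem (hU2 hv12) (hU1 hv21)
    -- a common element of the two hyperplanes
    obtain ⟨u, hu1, hu2, hune⟩ : ∃ u : G, u ∈ U1 ∧ u ∈ U2 ∧ u ≠ 1 := by
      by_contra h
      push Not at h
      have hsub : (U1 : Set G) ⊆ {1, v2} := by
        intro a ha
        by_cases ha2 : a ∈ U2
        · exact Or.inl (h a ha ha2)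
        · refine Or.inr ?_
          have hm : a * v2 ∈ U2 := (index_two_mul_mem hU2 hi2 (hU1 ha) (hU1 hv21)).mpr
            ⟨fun e => absurd e ha2, fun e => absurd e hv22⟩
          have := h _ (mul_mem ha hv21) hm
          rw [eq_inv_of_mul_eq_one_left this]
          exact hinvX v2 (hU1 hv21)
      have hc := Nat.card_mono (Set.toFinite ({1, v2} : Set G)) hsub
      have h2' : Nat.card ({1, v2} : Set G) ≤ 2 := by
        rw [Nat.card_coe_set_eq]
        exact le_trans (Set.ncard_insert_le _ _) (by rw [Set.ncard_singleton])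
      have : Nat.card U1 ≤ 2 := le_trans hc h2'
      omega
    have hu : orderOf u = 2 := orderOf_eq_prime (hX.2 u (hU1 hu1)) hune
    have finish : ∀ x y : G, x ∈ K → y ∈ K → x ≠ 1 → y ≠ 1 → Commute x y →
        u * x * u⁻¹ = x → u * y * u⁻¹ = y →
        (∃ g ∈ X, g * x * g⁻¹ = x⁻¹ ∧ g * y * g⁻¹ = y) → (∃ h ∈ X, h * y * h⁻¹ = y⁻¹) → False := by
      intro x y hxK hyK hx1 hy1 hxy hux huy ⟨g, hg, hgx, hgy⟩ ⟨h, hh, hhy⟩
      have hyA : y ∈ centralizer (A : Set G) := hKA hyK
      have hgA : ∀ g ∈ X, A ≤ centralizer ({g} : Set G) := fun g hg a ha =>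
        mem_centralizer_singleton_iff.mpr (mem_centralizer_iff.mp (hXA hg) a ha)
      have hE1 := elementary_sup_zpowers hA (hKexp y hyK) hyA
      have hxc : x ∈ centralizer ((A ⊔ zpowers y : Subgroup G) : Set G) := by
        refine (le_centralizer_iff.mp (sup_le ?_ ?_) : zpowers x ≤ _) (mem_zpowers x)
        · exact le_centralizer_iff.mp (zpowers_le.mpr (hKA hxK))
        · refine zpowers_le.mpr (mem_centralizer_iff.mpr fun z hz => ?_)
          obtain ⟨i, rfl⟩ := mem_zpowers_iff.mp hz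
          exact (hxy.zpow_left i).eq
      have hE := elementary_sup_zpowers hE1 (hKexp x hxK) hxc
      have hy' : y ∉ A := fun hy => hy1 (hone y hyK (by
        have := mem_centralizer_singleton_iff.mp (hgA h hh hy)
        rw [← this, mul_inv_cancel_right] at hhy
        exact hhy))
      have hx' : x ∉ A ⊔ zpowers y := fun hx => hx1 (hone x hxK (by
        have := mem_centralizer_singleton_iff.mp ((sup_le (hgA g hg) (zpowers_le.mpr
          (mem_centralizer_singleton_iff.mpr (mul_inv_eq_iff_eq_mul.mp hgy).symm)) :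
          A ⊔ zpowers y ≤ _) hx)
        rw [← this, mul_inv_cancel_right] at hgx
        exact hgx))
      have c1 := mul_card_le_of_lt (elementary_isPGroup hE1)
        (lt_of_le_of_ne (le_sup_left : A ≤ A ⊔ zpowers y)
          fun e => hy' (e ▸ mem_sup_right (mem_zpowers y)))
      have c2 := mul_card_le_of_lt (elementary_isPGroup hE)
        (lt_of_le_of_ne (le_sup_left : A ⊔ zpowers y ≤ A ⊔ zpowers y ⊔ zpowers x)
          fun e => hx' (e ▸ mem_sup_right (mem_zpowers x)))
      refine false_of_local hmax hu hE (sup_le (sup_le (hgA u (hU1 hu1))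
        (zpowers_le.mpr (mem_centralizer_singleton_iff.mpr (mul_inv_eq_iff_eq_mul.mp huy).symm)))
        (zpowers_le.mpr (mem_centralizer_singleton_iff.mpr (mul_inv_eq_iff_eq_mul.mp hux).symm))) ?_
      rw [hAc] at c1
      have hpow : p ^ n = p * p ^ (n - 1) := by rw [← pow_succ', Nat.sub_add_cancel hn]
      calc p ^ n < p * (p ^ n) := by
            exact lt_mul_of_one_lt_left (pow_pos hpp.out.pos n) hpp.out.one_lt
        _ ≤ p * Nat.card (A ⊔ zpowers y : Subgroup G) := Nat.mul_le_mul_left p (hpow ▸ c1)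
        _ ≤ _ := c2
    by_cases hz : ⁅x, y⁆ = 1
    · exact finish x y hxK hyK hx1 hy1 (commutatorElement_eq_one_iff_commute.mp hz) (hxf u hu1)
        (hyf u hu2) ⟨v1, hU2 hv12, hxi v1 (hU2 hv12) hv11, hyf v1 hv12⟩
        ⟨v2, hU1 hv21, hyi v2 (hU1 hv21) hv22⟩
    set z := ⁅x, y⁆ with hzdef
    have hzx : z * x = x * z := hKcl x hxK y hyK x hxK
    have hzy : z * y = y * z := hKcl x hxK y hyK y hyK
    have hzK : z ∈ K := mul_mem (mul_mem (mul_mem hxK hyK) (inv_mem hxK)) (inv_mem hyK)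
    have hconj : ∀ g : G, g * z * g⁻¹ = ⁅g * x * g⁻¹, g * y * g⁻¹⁆ := fun g => by
      rw [hzdef, commutatorElement_def, commutatorElement_def]; group
    have hl : ⁅x⁻¹, y⁆ = z⁻¹ := by
      calc ⁅x⁻¹, y⁆ = x⁻¹ * z⁻¹ * x := by rw [hzdef, commutatorElement_def, commutatorElement_def]; group
        _ = x⁻¹ * (z⁻¹ * x) := by group
        _ = _ := by rw [(Commute.inv_left hzx).eq, inv_mul_cancel_left]
    have hr : ⁅x, y⁻¹⁆ = z⁻¹ := by
      calc ⁅x, y⁻¹⁆ = y⁻¹ * z⁻¹ * y := by rw [hzdef, commutatorElement_def, commutatorElement_def]; group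
        _ = y⁻¹ * (z⁻¹ * y) := by group
        _ = _ := by rw [(Commute.inv_left hzy).eq, inv_mul_cancel_left]
    have hz1 : v1 * z * v1⁻¹ = z⁻¹ := by rw [hconj, hxi v1 (hU2 hv12) hv11, hyf v1 hv12, hl]
    have hz2 : v2 * z * v2⁻¹ = z⁻¹ := by rw [hconj, hxf v2 hv21, hyi v2 (hU1 hv21) hv22, hr]
    have hzw : v1 * v2 * z * (v1 * v2)⁻¹ = z := by
      calc v1 * v2 * z * (v1 * v2)⁻¹ = v1 * (v2 * z * v2⁻¹) * v1⁻¹ := by group
        _ = (v1 * z * v1⁻¹)⁻¹ := by rw [hz2]; group
        _ = z := by rw [hz1, inv_inv]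
    exact finish x z hxK hzK hx1 hz hzx.symm (hxf u hu1) (by rw [hconj, hxf u hu1, hyf u hu2])
      ⟨v1 * v2, hwX, hxi _ hwX hw1, hzw⟩ ⟨v1, hU2 hv12, hz1⟩
  have hpK : ¬ 2 ∣ Nat.card K := by
    obtain ⟨k, hk⟩ := IsPGroup.iff_card.mp hKp
    rw [hk]
    exact fun h => hp ((Nat.prime_dvd_prime_iff_eq Nat.prime_two hpp.out).mp
      (Nat.prime_two.dvd_of_dvd_pow h)).symm
  have hdet : ∀ v ∈ X, v ∈ centralizer (K : Set G) → v = 1 := fun v hv hc => by
    refine hKdet v (hXA hv) ?_ hc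
    exact Nat.Coprime.coprime_dvd_left (orderOf_dvd_of_pow_eq_one (hX.2 v hv))
      ((Nat.coprime_primes Nat.prime_two hpp.out).mpr (Ne.symm hp))
  by_cases hex : ∃ U : Subgroup G, U ≤ X ∧ Nat.card X ≤ 2 * Nat.card U ∧
      ¬ K ⊓ centralizer (U : Set G) ≤ centralizer (X : Set G)
  · obtain ⟨U, hU, hUc, hUn⟩ := hex
    have hKU : K ≤ centralizer (U : Set G) :=
      CfsgLib.Tech46.le_of_centralizers_corank_one hX K _ hpK hKX fun B' hB' hB'c => by
        by_cases hBn : K ⊓ centralizer (B' : Set G) ≤ centralizer (X : Set G)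
        · exact hBn.trans (centralizer_le (SetLike.coe_subset_coe.mpr hU))
        · rw [hall U hU hUc hUn B' hB' hB'c hBn]; exact inf_le_right
    have : U = ⊥ := (eq_bot_iff_forall _).mpr fun v hv =>
      hdet v (hU hv) (le_centralizer_iff.mp hKU hv)
    rw [this, card_bot] at hUc
    omega
  · push Not at hex
    have hKU : K ≤ centralizer (X : Set G) :=
      CfsgLib.Tech46.le_of_centralizers_corank_one hX K _ hpK hKX hex
    have : X = ⊥ := (eq_bot_iff_forall _).mpr fun v hv => hdet v hv (le_centralizer_iff.mp hKU hv)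
    rw [this, card_bot] at hbig
    omega

/-- No four-group centralizes `B`. -/
theorem not_four_centralizes (hp : p ≠ 2) (hn : 1 ≤ n) (hmax : Cfsg.TwoLocalPRankLE p n G)
    {B : Subgroup G} (hB : Cfsg.IsElementaryAbelian p B) (hBn : Nat.card B = p ^ n) {A : Subgroup G}
    (hAB : A ≤ B) (hF : IsPGroup p (Cfsg.generalizedFittingSubgroup ↥(centralizer (A : Set G))))
    {X : Subgroup G} (hX : Cfsg.IsElementaryAbelian 2 X) (hXB : X ≤ centralizer (B : Set G)) :
    Nat.card X < 4 := by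
  by_contra hbig
  obtain ⟨K, hKA, hKp, hKexp, -, hKn, hKdet⟩ := exists_detecting hp A hF
  haveI : Fact (Nat.Prime 2) := ⟨Nat.prime_two⟩
  have hXA : X ≤ centralizer (A : Set G) := hXB.trans (centralizer_le (SetLike.coe_subset_coe.mpr hAB))
  have hBA : B ≤ centralizer (A : Set G) := fun b hb =>
    mem_centralizer_iff.mpr fun a ha => elementary_comm hB (hAB ha) hb
  have hpK : ¬ 2 ∣ Nat.card K := by
    obtain ⟨k, hk⟩ := IsPGroup.iff_card.mp hKp
    rw [hk]
    exact fun h => hp ((Nat.prime_dvd_prime_iff_eq Nat.prime_two hpp.out).mp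
      (Nat.prime_two.dvd_of_dvd_pow h)).symm
  have hco : ∀ v ∈ X, (orderOf v).Coprime p := fun v hv =>
    Nat.Coprime.coprime_dvd_left (orderOf_dvd_of_pow_eq_one (hX.2 v hv))
      ((Nat.coprime_primes Nat.prime_two hpp.out).mpr (Ne.symm hp))
  have hKU : K ≤ centralizer (X : Set G) := by
    refine CfsgLib.Tech46.le_of_centralizers_corank_one hX K _ hpK (hXA.trans hKn)
      fun B' hB' hB'c => le_centralizer_iff.mp fun v hv => ?_
    obtain ⟨u, hu, hu1⟩ := B'.bot_or_exists_ne_one.resolve_left fun e => by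
      rw [e, card_bot] at hB'c; omega
    set R := K ⊓ centralizer (B' : Set G)
    have hvn : ∀ g, g ∈ centralizer (A : Set G) → (∀ w ∈ B', w * g = g * w) →
        g ∈ normalizer (R : Set G) := by
      intro g hg hgB
      refine CfsgLib.Techniques.mem_normalizer_inf (hKn hg)
        (CfsgLib.Techniques.normalizer_le_normalizer_centralizer _ (centralizer_le_normalizer _ ?_))
      exact mem_centralizer_iff.mpr hgB
    refine CfsgLib.Components.mem_centralizer_of_AxB (hKp.to_le inf_le_left) (elementary_isPGroup hB)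
      (fun b hb => hvn b (hBA hb) fun w hw => (mem_centralizer_iff.mp (hXB (hB' hw)) b hb).symm)
      (hvn v (hXA hv) fun w hw => elementary_comm hX (hB' hw) hv) (hXB hv) (hco v hv)
      fun r hr hrB => ?_
    by_contra hne
    set y := v * r * v⁻¹ * r⁻¹ with hy
    have hy1 : y ≠ 1 := fun h => hne (mul_inv_eq_iff_eq_mul.mp (mul_inv_eq_one.mp h))
    have hyR : y ∈ R := mul_mem ((mem_normalizer_iff.mp
      (hvn v (hXA hv) fun w hw => elementary_comm hX (hB' hw) hv) r).mp hr) (inv_mem hr)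
    have hyB : y ∈ centralizer (B : Set G) :=
      mul_mem (mul_mem (mul_mem (hXB hv) hrB) (inv_mem (hXB hv))) (inv_mem hrB)
    have hvy : v * y * v⁻¹ = y⁻¹ := by
      rw [hy]
      calc v * (v * r * v⁻¹ * r⁻¹) * v⁻¹ = (v * v) * r * (v * v)⁻¹ * (v * r⁻¹ * v⁻¹) := by group
        _ = r * (v * r⁻¹ * v⁻¹) := by rw [← sq, hX.2 v hv]; simp
        _ = _ := by group
    have hy' : y ∉ B := fun h => hy1 (by
      have hc := mem_centralizer_iff.mp (hXB hv) y h
      rw [← hc, mul_inv_cancel_right] at hvy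
      have h2 : orderOf y ∣ 2 := orderOf_dvd_of_pow_eq_one (by
        rw [sq]; nth_rw 1 [hvy]; exact inv_mul_cancel y)
      have h3 : orderOf y ∣ p := orderOf_dvd_of_pow_eq_one (hKexp y hyR.1)
      exact orderOf_eq_one_iff.mp (Nat.eq_one_of_dvd_coprimes
        ((Nat.coprime_primes hpp.out Nat.prime_two).mpr hp) h3 h2))
    have hE := elementary_sup_zpowers hB (hKexp y hyR.1) hyB
    have c := mul_card_le_of_lt (elementary_isPGroup hE)
      (lt_of_le_of_ne (le_sup_left : B ≤ B ⊔ zpowers y) fun e => hy' (e ▸ mem_sup_right (mem_zpowers y)))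
    refine false_of_local hmax (orderOf_eq_prime (hX.2 u (hB' hu)) hu1) hE (sup_le (fun b hb =>
      mem_centralizer_singleton_iff.mpr (mem_centralizer_iff.mp (hXB (hB' hu)) b hb))
      (zpowers_le.mpr (mem_centralizer_singleton_iff.mpr
        (mem_centralizer_iff.mp hyR.2 u hu).symm))) ?_
    rw [hBn] at c
    exact (lt_mul_of_one_lt_left (pow_pos hpp.out.pos n) hpp.out.one_lt).trans_le c
  have : X = ⊥ := (eq_bot_iff_forall _).mpr fun v hv =>
    hKdet v (hXA hv) (hco v hv) (le_centralizer_iff.mp hKU hv)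
  rw [this, card_bot] at hbig
  omega

/-- `B` centralizes each elementary abelian 2-subgroup normal in `T`, so such a subgroup is small. -/
theorem card_normal_lt_four (hp : p ≠ 2) (hn : 1 ≤ n) (hmax : Cfsg.TwoLocalPRankLE p n G)
    {B : Subgroup G} (hB : Cfsg.IsElementaryAbelian p B) (hBn : Nat.card B = p ^ n)
    (hhyp : ∀ A : Subgroup G, A ≤ B → Nat.card A = p ^ (n - 1) →
      IsPGroup p (Cfsg.generalizedFittingSubgroup ↥(centralizer (A : Set G))))
    {T : Subgroup G} (hT : IsPGroup 2 T)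
    (h3 : p = 3 → T ⊓ centralizer (B : Set G) ≠ ⊥) {V : Subgroup G}
    (hV : Cfsg.IsElementaryAbelian 2 V) (hBV : B ≤ normalizer (V : Set G))
    (hTV : T ≤ normalizer (V : Set G)) : Nat.card V < 4 := by
  haveI : Fact (Nat.Prime 2) := ⟨Nat.prime_two⟩
  obtain ⟨A₀', hA₀⟩ := Sylow.exists_subgroup_card_pow_prime (G := B) p (n := n - 1)
    (by rw [hBn]; exact pow_dvd_pow p (Nat.sub_le n 1))
  set A₀ := A₀'.map B.subtype
  have hA₀c : Nat.card A₀ = p ^ (n - 1) := by
    rw [card_map_of_injective B.subtype_injective, hA₀]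
  refine not_four_centralizes hp hn hmax hB hBn (map_subtype_le _)
    (hhyp A₀ (map_subtype_le _) hA₀c) hV ?_
  have hpV : ¬ p ∣ Nat.card V := by
    obtain ⟨k, hk⟩ := IsPGroup.iff_card.mp (elementary_isPGroup hV)
    rw [hk]
    exact fun h => hp ((Nat.prime_dvd_prime_iff_eq hpp.out Nat.prime_two).mp (hpp.out.dvd_of_dvd_pow h))
  refine CfsgLib.Tech46.le_of_centralizers_corank_one hB V _ hpV hBV fun A hAB hAc => ?_
  obtain rfl | hne := eq_or_ne A B
  · exact inf_le_right
  have hAcard : Nat.card A = p ^ (n - 1) := by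
    have h1 := mul_card_le_of_lt (elementary_isPGroup hB) (lt_of_le_of_ne hAB hne)
    have h2 : p * Nat.card A = p * p ^ (n - 1) := by
      rw [le_antisymm h1 hAc, hBn, ← pow_succ', Nat.sub_add_cancel hn]
    exact Nat.eq_of_mul_eq_mul_left hpp.out.pos h2
  have hA := elementary_le hB hAB
  set X := V ⊓ centralizer (A : Set G) with hXdef
  have hX : Cfsg.IsElementaryAbelian 2 X := elementary_le hV inf_le_left
  have hX4 := card_le_four hp hn hmax hA hAcard (hhyp A hAB hAcard) hX inf_le_right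
  have hnorm : ∀ g, g ∈ normalizer (V : Set G) → g ∈ centralizer (A : Set G) →
      g ∈ normalizer (X : Set G) := fun g hg hgA =>
    CfsgLib.Techniques.mem_normalizer_inf hg (CfsgLib.Techniques.normalizer_le_normalizer_centralizer _
      (centralizer_le_normalizer _ hgA))
  intro x hx
  rw [mem_centralizer_iff]
  intro b hb
  by_contra hbx
  have hbA : b ∈ centralizer (A : Set G) :=
    mem_centralizer_iff.mpr fun a ha => elementary_comm hB (hAB ha) hb
  have hbn : ∀ k : ℕ, b ^ k ∈ normalizer (X : Set G) := fun k => pow_mem (hnorm b (hBV hb) hbA) k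
  have hb1 : b ≠ 1 := fun e => hbx (by rw [e, one_mul, mul_one])
  have hbo : orderOf b = p := orderOf_eq_prime (hB.2 b hb) hb1
  have hper : ∀ k : ℕ, b ^ k * x * (b ^ k)⁻¹ = x → p ∣ k := by
    intro k hk
    by_contra hpk
    have hco : (orderOf b).Coprime k := by rw [hbo]; exact hpp.out.coprime_iff_not_dvd.mpr hpk
    obtain ⟨m, hm⟩ := exists_pow_eq_self_of_coprime hco.symm
    have h : Commute (b ^ k) x := mul_inv_eq_iff_eq_mul.mp hk
    exact hbx (hm ▸ (h.pow_left m).eq)
  let f : Fin p → G := fun i => b ^ (i : ℕ) * x * (b ^ (i : ℕ))⁻¹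
  have hf : Function.Injective f := by
    have key : ∀ i j : Fin p, (i : ℕ) ≤ j → f i = f j → i = j := by
      intro i j hij h
      have : p ∣ ((j : ℕ) - i) := hper _ (by
        have hji : b ^ (j : ℕ) = b ^ (i : ℕ) * b ^ ((j : ℕ) - i) := by
          rw [← pow_add, Nat.add_sub_cancel' hij]
        simp only [f, hji] at h
        have h' := congrArg (fun t => (b ^ (i : ℕ))⁻¹ * t * b ^ (i : ℕ)) h
        simp only [mul_inv_rev, mul_assoc, inv_mul_cancel_left, inv_mul_cancel, mul_one] at h'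
        rw [mul_assoc]; exact h'.symm)
      have hlt : (j : ℕ) - i < p := by omega
      exact Fin.ext (by have := Nat.eq_zero_of_dvd_of_lt this hlt; omega)
    intro i j h
    rcases le_total (i : ℕ) j with hij | hij
    · exact key i j hij h
    · exact (key j i hij h.symm).symm
  have hfX : ∀ i, f i ∈ X := fun i => (mem_normalizer_iff.mp (hbn i) x).mp hx
  have hx1 : x ≠ 1 := fun e => hbx (by rw [e, one_mul, mul_one])
  have hf1 : ∀ i, f i ≠ 1 := fun i h => hx1 (by
    have : b ^ (i : ℕ) * x * (b ^ (i : ℕ))⁻¹ = 1 := h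
    rwa [mul_inv_eq_one, mul_eq_left] at this)
  let g : Option (Fin p) → X := fun o => o.elim 1 fun i => ⟨f i, hfX i⟩
  have hg : Function.Injective g := by
    rintro (_ | i) (_ | j) h
    · rfl
    · exact absurd (congrArg Subtype.val h).symm (hf1 j)
    · exact absurd (congrArg Subtype.val h) (hf1 i)
    · exact congrArg some (hf (congrArg Subtype.val h))
  have hcount := Nat.card_le_card_of_injective g hg
  rw [Nat.card_eq_fintype_card (α := Option (Fin p)), Fintype.card_option, Fintype.card_fin] at hcount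
  have hp3 : p = 3 := by
    have := hpp.out.two_le
    omega
  subst hp3
  have hsurj : Function.Surjective g := by
    refine (hg.bijective_of_nat_card_le ?_).2
    simp only [Nat.card_eq_fintype_card, Fintype.card_option, Fintype.card_fin]
    omega
  obtain ⟨t, ht⟩ : ∃ t : G, t ∈ T ⊓ centralizer (B : Set G) ∧ orderOf t = 2 := by
    haveI : Nontrivial (T ⊓ centralizer (B : Set G) : Subgroup G) :=
      (nontrivial_iff_ne_bot _).mpr (h3 rfl)
    obtain ⟨k, hk, hc⟩ := (hT.to_le (inf_le_left : T ⊓ centralizer (B : Set G) ≤ T)).nontrivial_iff_card.mp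
      inferInstance
    obtain ⟨t, ht⟩ := exists_prime_orderOf_dvd_card'
      (G := (T ⊓ centralizer (B : Set G) : Subgroup G)) 2 (hc ▸ dvd_pow_self 2 hk.ne')
    exact ⟨t, t.2, by rwa [orderOf_submonoid]⟩
  have htA : t ∈ centralizer (A : Set G) := centralizer_le (SetLike.coe_subset_coe.mpr hAB) ht.1.2
  have htn : t ∈ normalizer (X : Set G) := hnorm t (hTV ht.1.1) htA
  have htb : ∀ i : ℕ, t * b ^ i = b ^ i * t := fun i =>
    ((mem_centralizer_iff.mp ht.1.2 (b ^ i) (pow_mem hb i))).symm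
  have ht2 : t * t = 1 := by rw [← sq, ← ht.2]; exact pow_orderOf_eq_one t
  have htx : t * x * t⁻¹ = x := by
    obtain ⟨o, ho⟩ := hsurj ⟨t * x * t⁻¹, (mem_normalizer_iff.mp htn x).mp hx⟩
    rcases o with _ | i
    · have h : (1 : G) = t * x * t⁻¹ := congrArg Subtype.val ho
      exact absurd (by
        calc x = t⁻¹ * (t * x * t⁻¹) * t := by group
          _ = 1 := by rw [← h]; group) hx1
    · have hi : b ^ (i : ℕ) * x * (b ^ (i : ℕ))⁻¹ = t * x * t⁻¹ := congrArg Subtype.val ho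
      have h2 : b ^ (2 * (i : ℕ)) * x * (b ^ (2 * (i : ℕ)))⁻¹ = x := by
        calc b ^ (2 * (i : ℕ)) * x * (b ^ (2 * (i : ℕ)))⁻¹
            = b ^ (i : ℕ) * (b ^ (i : ℕ) * x * (b ^ (i : ℕ))⁻¹) * (b ^ (i : ℕ))⁻¹ := by
              rw [two_mul, pow_add]; group
          _ = (b ^ (i : ℕ) * t) * x * (b ^ (i : ℕ) * t)⁻¹ := by rw [hi]; group
          _ = t * (b ^ (i : ℕ) * x * (b ^ (i : ℕ))⁻¹) * t⁻¹ := by rw [← htb]; group
          _ = (t * t) * x * (t * t)⁻¹ := by rw [hi]; group
          _ = x := by rw [ht2]; simp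
      have hd := hper _ h2
      have : (i : ℕ) = 0 := by omega
      rw [this] at hi
      simpa using hi.symm
  have htX : t ∈ centralizer (X : Set G) := by
    rw [mem_centralizer_iff]
    intro y hy
    obtain ⟨o, ho⟩ := hsurj ⟨y, hy⟩
    rcases o with _ | i
    · have h : (1 : G) = y := congrArg Subtype.val ho
      rw [← h, one_mul, mul_one]
    · have h : b ^ (i : ℕ) * x * (b ^ (i : ℕ))⁻¹ = y := congrArg Subtype.val ho
      rw [← h]
      have htc : t * x = x * t := mul_inv_eq_iff_eq_mul.mp htx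
      have c1 : Commute t (b ^ (i : ℕ)) := htb i
      exact ((c1.mul_right htc).mul_right c1.inv_right).symm.eq
  have htnX : t ∉ X := fun h => by
    obtain ⟨o, ho⟩ := hsurj ⟨t, h⟩
    rcases o with _ | i
    · have h1 : (1 : G) = t := congrArg Subtype.val ho
      have := ht.2
      rw [← h1, orderOf_one] at this
      omega
    · have h1 : b ^ (i : ℕ) * x * (b ^ (i : ℕ))⁻¹ = t := congrArg Subtype.val ho
      have hbt : Commute b t := (mem_centralizer_iff.mp ht.1.2 b hb)
      have hxt : x = t := by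
        calc x = (b ^ (i : ℕ))⁻¹ * t * b ^ (i : ℕ) := by rw [← h1]; group
          _ = t := by rw [mul_assoc, htb, inv_mul_cancel_left]
      exact hbx (hxt ▸ hbt.eq)
  have hE := elementary_sup_zpowers hX (ht.2 ▸ pow_orderOf_eq_one t) htX
  have h8 := card_le_four (p := 3) hp hn hmax hA hAcard (hhyp A hAB hAcard) hE
    (sup_le inf_le_right (zpowers_le.mpr htA))
  have hlt := mul_card_le_of_lt (elementary_isPGroup hE)
    (lt_of_le_of_ne (le_sup_left : X ≤ X ⊔ zpowers t) fun e => htnX (e ▸ mem_sup_right (mem_zpowers t)))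
  omega

/-- The characteristic abelian subgroups of `T` are cyclic. -/
theorem isOfSymplecticType (hp : p ≠ 2) (hn : 1 ≤ n) (hmax : Cfsg.TwoLocalPRankLE p n G)
    {B : Subgroup G} (hB : Cfsg.IsElementaryAbelian p B) (hBn : Nat.card B = p ^ n)
    (hhyp : ∀ A : Subgroup G, A ≤ B → Nat.card A = p ^ (n - 1) →
      IsPGroup p (Cfsg.generalizedFittingSubgroup ↥(centralizer (A : Set G))))
    {T : Subgroup G} (hT : IsPGroup 2 T) (hBT : B ≤ normalizer (T : Set G))
    (h3 : p = 3 → T ⊓ centralizer (B : Set G) ≠ ⊥) :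
    Cfsg.IsOfSymplecticType T := by
  refine ⟨hT, fun A hAc hAab => ?_⟩
  haveI := hAab
  letI : CommGroup A := { (inferInstance : Group A) with mul_comm := fun a b => mul_comm' a b }
  refine isCyclic_of_unique_involution (hT.to_subgroup A) fun a b ha hb => ?_
  by_contra hab
  let Ω : Subgroup T :=
    { carrier := {x | x ∈ A ∧ x ^ 2 = 1}
      one_mem' := ⟨one_mem A, one_pow 2⟩
      mul_mem' := fun {x y} hx hy => ⟨mul_mem hx.1 hy.1, by
        have : Commute x y := congrArg Subtype.val (mul_comm' (⟨x, hx.1⟩ : A) ⟨y, hy.1⟩)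
        rw [this.mul_pow, hx.2, hy.2, one_mul]⟩
      inv_mem' := fun {x} hx => ⟨inv_mem hx.1, by rw [inv_pow, hx.2, inv_one]⟩ }
  haveI : Ω.Characteristic := by
    rw [characteristic_iff_le_comap]
    exact fun φ x hx => ⟨(characteristic_iff_le_comap.mp hAc φ) hx.1,
      show φ x ^ 2 = 1 by rw [← map_pow, hx.2, map_one]⟩
  set V := Ω.map T.subtype with hVdef
  have hV : Cfsg.IsElementaryAbelian 2 V := by
    refine ⟨⟨⟨?_⟩⟩, ?_⟩
    · rintro ⟨_, x, hx, rfl⟩ ⟨_, y, hy, rfl⟩
      exact Subtype.ext (congrArg T.subtype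
        (congrArg Subtype.val (mul_comm' (⟨x, hx.1⟩ : A) ⟨y, hy.1⟩)))
    · rintro _ ⟨x, hx, rfl⟩
      rw [← map_pow, hx.2, map_one]
  have hnV := CfsgLib.Techniques.normalizer_le_normalizer_map_subtype T Ω
  have h4 := card_normal_lt_four hp hn hmax hB hBn hhyp hT h3 hV (hBT.trans hnV)
    (le_normalizer.trans hnV)
  rw [hVdef, card_map_of_injective T.subtype_injective] at h4
  -- four distinct elements
  have hmem : ∀ c : A, c ^ 2 = 1 → (c : T) ∈ Ω := fun c hc =>
    ⟨c.2, by rw [← coe_pow, hc, coe_one]⟩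
  have ha2 : a ^ 2 = 1 := ha ▸ pow_orderOf_eq_one a
  have hb2 : b ^ 2 = 1 := hb ▸ pow_orderOf_eq_one b
  have ha1 : a ≠ 1 := fun e => by rw [e, orderOf_one] at ha; omega
  have hb1 : b ≠ 1 := fun e => by rw [e, orderOf_one] at hb; omega
  have hab1 : a * b ≠ 1 := fun e => hab (by
    rw [eq_inv_of_mul_eq_one_left e, inv_eq_of_mul_eq_one_right (by rw [← sq]; exact hb2)])
  classical
  let e : Fin 4 → Ω := ![1, ⟨a, hmem a ha2⟩, ⟨b, hmem b hb2⟩, ⟨(a * b : A), hmem _ (by rw [mul_pow, ha2, hb2, one_mul])⟩]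
  have he : Function.Injective e := by
    intro i j h
    have h' := congrArg Subtype.val h
    fin_cases i <;> fin_cases j <;> simp [e] at h' ⊢ <;>
      first
      | exact ha1 (Subtype.ext (by simpa using h'))
      | exact ha1 (Subtype.ext (by simpa using h'.symm))
      | exact hb1 (Subtype.ext (by simpa using h'))
      | exact hb1 (Subtype.ext (by simpa using h'.symm))
      | exact hab (Subtype.ext (by simpa using h'))
      | exact hab (Subtype.ext (by simpa using h'.symm))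
      | exact hab1 (Subtype.ext (by simpa using h'))
      | exact hab1 (Subtype.ext (by simpa using h'.symm))
      | exact hb1 (by simpa using h')
      | exact ha1 (by simpa using h')
  have := Nat.card_le_card_of_injective e he
  rw [Nat.card_fin] at this
  omega

end Cfsg.Tech46.Sympl
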