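import Mathlib
import Cfsg.Prelude.Def_Transfer

/-!
Coprime action of abelian p-groups inside an ambient finite group: fixed points in cosets,
invariant Sylow subgroups, generation by fixed points of subgroups with small index.
-/

set_option autoImplicit false

namespace CfsgLib.Tech46

open scoped Pointwise

variable {G : Type*} [Group G] {p : ℕ}

/-- A `p`-group normalizing a finite set invariant-coset of a `p'`-subgroup fixes one of its points. -/
theorem exists_fixed_in_coset [Finite G] [Fact p.Prime] {A N : Subgroup G} (hA : IsPGroup p A)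
    (hN : ¬ p ∣ Nat.card N) (hAN : A ≤ Subgroup.normalizer (N : Set G)) {x : G}
    (hx : ∀ a ∈ A, x⁻¹ * (a * x * a⁻¹) ∈ N) :
    ∃ n ∈ N, x * n ∈ Subgroup.centralizer (A : Set G) := by
  classical
  -- the coset `x N` as a type with an action of `A`
  letI act : MulAction A {y : G // x⁻¹ * y ∈ N} :=
    { smul := fun a y => ⟨a.1 * y.1 * a.1⁻¹, by
        have h1 : a.1 * (x⁻¹ * y.1) * a.1⁻¹ ∈ N :=
          (Subgroup.mem_normalizer_iff.mp (hAN a.2) _).mp y.2
        have h2 := N.mul_mem (hx a.1 a.2) h1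
        convert h2 using 1; group⟩
      one_smul := fun y => Subtype.ext (by show (1 : G) * y.1 * (1 : G)⁻¹ = y.1; group)
      mul_smul := fun a b y => Subtype.ext (by
        show (a.1 * b.1) * y.1 * (a.1 * b.1)⁻¹ = a.1 * (b.1 * y.1 * b.1⁻¹) * a.1⁻¹
        group) }
  let e : {y : G // x⁻¹ * y ∈ N} ≃ N :=
    { toFun := fun y => ⟨x⁻¹ * y.1, y.2⟩
      invFun := fun n => ⟨x * n.1, by simp⟩
      left_inv := fun y => by simp
      right_inv := fun n => by simp }
  have hcard : ¬ p ∣ Nat.card {y : G // x⁻¹ * y ∈ N} := by rwa [Nat.card_congr e]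
  obtain ⟨y, hy⟩ := hA.nonempty_fixed_point_of_prime_not_dvd_card _ hcard
  refine ⟨x⁻¹ * y.1, y.2, ?_⟩
  rw [Subgroup.mem_centralizer_iff]
  intro a ha
  have h := congrArg Subtype.val (hy ⟨a, ha⟩)
  change a * y.1 * a⁻¹ = y.1 at h
  calc a * (x * (x⁻¹ * y.1)) = a * y.1 * a⁻¹ * a := by group
    _ = y.1 * a := by rw [h]
    _ = x * (x⁻¹ * y.1) * a := by group

/-- A `p`-group normalizing a `p'`-subgroup normalizes one of its Sylow `q`-subgroups. -/
theorem exists_invariant_sylow [Finite G] [Fact p.Prime] {A X : Subgroup G} (hA : IsPGroup p A)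
    (hX : ¬ p ∣ Nat.card X) (hAX : A ≤ Subgroup.normalizer (X : Set G)) (q : ℕ) [Fact q.Prime] :
    ∃ Q : Sylow q X, A ≤ Subgroup.normalizer ((Q : Subgroup X).map X.subtype : Set G) := by
  classical
  let f : A →* MulAut X := X.normalizerMonoidHom.comp (Subgroup.inclusion hAX)
  letI : MulDistribMulAction A X := MulDistribMulAction.compHom X f
  have hcard : ¬ p ∣ Nat.card (Sylow q X) := fun h =>
    hX (h.trans ((Sylow.card_dvd_index (default : Sylow q X)).trans (Subgroup.index_dvd_card _)))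
  obtain ⟨Q, hQ⟩ := hA.nonempty_fixed_point_of_prime_not_dvd_card (Sylow q X) hcard
  refine ⟨Q, fun a ha => ?_⟩
  have hfix : ((⟨a, ha⟩ : A) • Q : Sylow q X) = Q := hQ ⟨a, ha⟩
  have hstep : ∀ (b : A) (y : G), y ∈ (Q : Subgroup X).map X.subtype →
      ((b • Q : Sylow q X) = Q) → (b : G) * y * (b : G)⁻¹ ∈ (Q : Subgroup X).map X.subtype := by
    rintro b y ⟨z, hz, rfl⟩ hb
    refine ⟨f b z, ?_, rfl⟩
    rw [← hb]
    exact Subgroup.smul_mem_pointwise_smul z b (Q : Subgroup X) hz
  rw [Subgroup.mem_normalizer_iff]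
  intro y
  refine ⟨fun hy => hstep ⟨a, ha⟩ y hy hfix, fun hy => ?_⟩
  have hinv : ((⟨a, ha⟩ : A)⁻¹ • Q : Sylow q X) = Q := by
    rw [inv_smul_eq_iff]; exact hfix.symm
  have := hstep (⟨a, ha⟩ : A)⁻¹ _ hy hinv
  simpa [mul_assoc] using this

/-- Contains-a-Sylow-for-every-prime criterion. -/
theorem le_of_forall_sylow_le [Finite G] {X Y : Subgroup G}
    (h : ∀ q : ℕ, q.Prime → ∃ Q : Subgroup G, Q ≤ X ∧ Q ≤ Y ∧ ¬ q ∣ Q.relIndex X) : X ≤ Y := by
  rw [← Subgroup.relIndex_eq_one]
  by_contra hne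
  obtain ⟨q, hq, hdvd⟩ := Nat.exists_prime_and_dvd hne
  obtain ⟨Q, hQX, hQY, hndvd⟩ := h q hq
  apply hndvd
  rw [← Subgroup.inf_relIndex_right Y X] at hdvd
  exact hdvd.trans ⟨Q.relIndex (Y ⊓ X),
    by rw [mul_comm, Subgroup.relIndex_mul_relIndex _ _ _ (le_inf hQY hQX) inf_le_right]⟩

/-- The averaging trick: in an abelian group, `x ^ p` lies in the fixed points of the lines of `E_{p²}`. -/
theorem pow_mem_of_abelian_action {M : Type*} [CommGroup M] [Fact p.Prime] (s t : MulAut M)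
    (hs : s ^ p = 1) (ht : t ^ p = 1) (hst : s * t = t * s) (Y : Subgroup M)
    (hY : ∀ i j : ℕ, (i < p ∧ j = 1) ∨ (i = 1 ∧ j = 0) →
      ∀ m : M, (s ^ i * t ^ j) m = m → m ∈ Y) (x : M) : x ^ p ∈ Y := by
  classical
  have hp : p.Prime := Fact.out
  haveI : NeZero p := ⟨hp.ne_zero⟩
  -- averaging over the powers of one automorphism gives a fixed point
  have hfix : ∀ (u : MulAut M), u ^ p = 1 → ∀ m : M,
      u (∏ k ∈ Finset.range p, (u ^ k) m) = ∏ k ∈ Finset.range p, (u ^ k) m := by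
    intro u hu m
    have h1 : (∏ k ∈ Finset.range p, (u ^ k) m) * (u ^ p) m
        = m * u (∏ k ∈ Finset.range p, (u ^ k) m) := by
      rw [← Finset.prod_range_succ (fun k => (u ^ k) m), Finset.prod_range_succ', map_prod]
      simp only [pow_succ', MulAut.mul_apply, pow_zero, MulAut.one_apply]
      rw [mul_comm]
    rw [hu, MulAut.one_apply, mul_comm] at h1
    exact (mul_left_cancel h1).symm
  have hcomm : Commute s t := hst
  set A := ∏ i ∈ Finset.range p, ∏ k ∈ Finset.range p, ((s ^ i * t) ^ k) x with hA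
  have hA' : A ∈ Y := by
    refine prod_mem fun i hi => hY i 1 (Or.inl ⟨Finset.mem_range.mp hi, rfl⟩) _ ?_
    rw [pow_one]
    refine hfix _ ?_ x
    rw [(hcomm.pow_left i).mul_pow, ← pow_mul, mul_comm i p, pow_mul, hs, one_pow, one_mul, ht]
  set B := ∏ j ∈ Finset.range p, (s ^ j) x with hB
  have hB' : B ∈ Y := hY 1 0 (Or.inr ⟨rfl, rfl⟩) _ (by rw [pow_one, pow_zero, mul_one]; exact hfix s hs x)
  -- the full norm
  set C := ∏ k ∈ Finset.range p, (t ^ k) B with hC
  have hC' : C ∈ Y := hY 0 1 (Or.inl ⟨hp.pos, rfl⟩) _ (by rw [pow_zero, one_mul, pow_one]; exact hfix t ht B)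
  -- express A
  have hperm : ∀ k : ℕ, k ∈ Finset.range p → k ≠ 0 →
      ∏ i ∈ Finset.range p, ((s ^ i * t) ^ k) x = (t ^ k) B := by
    intro k hk hk0
    have hkp : k.Coprime p := ((hp.coprime_iff_not_dvd).mpr (fun h => by
      have := Nat.le_of_dvd (Nat.pos_of_ne_zero hk0) h
      have := Finset.mem_range.mp hk
      omega)).symm
    have hterm : ∀ i : ℕ, ((s ^ i * t) ^ k) x = (t ^ k) ((s ^ ((i * k) % p)) x) := by
      intro i
      rw [(hcomm.pow_left i).mul_pow, ← pow_mul, pow_eq_pow_mod (i * k) hs,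
        ((hcomm.pow_pow ((i * k) % p) k)).eq, MulAut.mul_apply]
    simp only [hterm]
    rw [← map_prod, hB]
    congr 1
    have h1 : ∀ i ∈ Finset.range p, (i * k) % p ∈ Finset.range p := fun i _ =>
      Finset.mem_range.mpr (Nat.mod_lt _ hp.pos)
    have hinj : Set.InjOn (fun i => (i * k) % p) (Finset.range p : Set ℕ) := by
      intro a ha b hb hab
      have h2 : a ≡ b [MOD p] := Nat.ModEq.cancel_right_of_coprime hkp.symm hab
      exact h2.eq_of_lt_of_lt (Finset.mem_range.mp ha) (Finset.mem_range.mp hb)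
    have himg : (Finset.range p).image (fun i => (i * k) % p) = Finset.range p :=
      Finset.eq_of_subset_of_card_le (Finset.image_subset_iff.mpr h1)
        (by rw [Finset.card_image_of_injOn hinj])
    conv_rhs => rw [← himg, Finset.prod_image hinj]
  have hAeq : A * B = x ^ p * C := by
    rw [hA, Finset.prod_comm]
    obtain ⟨r, hr⟩ := Nat.exists_eq_succ_of_ne_zero hp.ne_zero
    rw [hC, hr, Finset.prod_range_succ', Finset.prod_range_succ' (fun k => (t ^ k) B)]
    rw [← hr]
    have e1 : ∀ k ∈ Finset.range r, ∏ i ∈ Finset.range p, ((s ^ i * t) ^ (k + 1)) x = (t ^ (k + 1)) B :=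
      fun k hk => hperm (k + 1) (Finset.mem_range.mpr (by have := Finset.mem_range.mp hk; omega)) (by omega)
    rw [Finset.prod_congr rfl e1]
    simp only [pow_zero, MulAut.one_apply, Finset.prod_const, Finset.card_range]
    exact (mul_assoc _ _ _).trans (mul_left_comm _ _ _)
  have : x ^ p = A * B * C⁻¹ := by rw [hAeq, mul_inv_cancel_right]
  rw [this]
  exact Y.mul_mem (Y.mul_mem hA' hB') (Y.inv_mem hC')

/-- A nilpotent `p'`-group normalized by `E_{p²}` is generated by fixed points of non-identity elements. -/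
theorem nilpotent_le_of_centralizers_le [Finite G] [Fact p.Prime] (s t : G) (hs : s ^ p = 1) (ht : t ^ p = 1)
    (hst : s * t = t * s) (Q Y : Subgroup G) (hQ : ¬ p ∣ Nat.card Q) (hnil : Group.IsNilpotent Q)
    (hsQ : s ∈ Subgroup.normalizer (Q : Set G)) (htQ : t ∈ Subgroup.normalizer (Q : Set G))
    (hY : ∀ i j : ℕ, (i < p ∧ j = 1) ∨ (i = 1 ∧ j = 0) →
      Q ⊓ Subgroup.centralizer {s ^ i * t ^ j} ≤ Y) : Q ≤ Y := by
  classical
  haveI := hnil
  -- the upper central series of Q, mapped into G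
  suffices h : ∀ n : ℕ, (Subgroup.upperCentralSeries Q n).map Q.subtype ≤ Y by
    obtain ⟨n, hn⟩ := Group.IsNilpotent.nilpotent (G := Q)
    have := h n
    rwa [hn, ← MonoidHom.range_eq_map, Subgroup.range_subtype] at this
  intro n
  induction n with
  | zero => simp
  | succ n ih =>
    rintro y ⟨z, hz, rfl⟩
    set N := Subgroup.upperCentralSeries Q n with hN
    set M := Subgroup.upperCentralSeries Q (n + 1) with hM
    haveI : N.Normal := inferInstance
    let π : M →* (Q ⧸ N) := (QuotientGroup.mk' N).comp M.subtype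
    -- the abelian group M/N
    let V := π.range
    have hVc : ∀ v ∈ V, ∀ w : Q ⧸ N, v * w = w * v := by
      rintro v ⟨m, rfl⟩ w
      obtain ⟨w, rfl⟩ := QuotientGroup.mk'_surjective N w
      have hm := Subgroup.mem_upperCentralSeries_succ_iff.mp m.2 w
      show (QuotientGroup.mk' N) m.1 * (QuotientGroup.mk' N) w = (QuotientGroup.mk' N) w * (QuotientGroup.mk' N) m.1
      rw [← map_mul, ← map_mul]
      apply QuotientGroup.eq.mpr
      have h2 : (m.1 * w)⁻¹ * (w * m.1) ∈ N := by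
        have h3 := (inferInstance : N.Normal).conj_mem _ (N.inv_mem hm) (m.1 * w)⁻¹
        convert h3 using 1
        group
      exact h2
    letI : CommGroup V :=
      { (inferInstance : Group V) with
        mul_comm := fun a b => Subtype.ext (hVc a.1 a.2 b.1) }
    -- automorphisms induced on V
    have hchar : ∀ k : ℕ, (Subgroup.upperCentralSeries Q k).Characteristic := fun k => inferInstance
    have hmk : ∀ g : G, g ∈ Subgroup.normalizer (Q : Set G) →
        ∃ u : MulAut V, ∀ (m : M) (h : g * ((m : Q) : G) * g⁻¹ ∈ Q),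
          ((u ⟨π m, m, rfl⟩ : V) : Q ⧸ N) = QuotientGroup.mk' N ⟨g * ((m : Q) : G) * g⁻¹, h⟩ := by
      intro g hg
      let φ : MulAut Q := Q.normalizerMonoidHom ⟨g, hg⟩
      have hφN : N.map φ.toMonoidHom = N := Subgroup.characteristic_iff_map_eq.mp (hchar n) φ
      have hφM : M.map φ.toMonoidHom = M := Subgroup.characteristic_iff_map_eq.mp (hchar (n + 1)) φ
      let ψ : (Q ⧸ N) ≃* (Q ⧸ N) := QuotientGroup.congr N N φ hφN
      have hψ : V.map ψ.toMonoidHom = V := by
        show π.range.map ψ.toMonoidHom = π.range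
        simp only [π, MonoidHom.range_comp, Subgroup.range_subtype, Subgroup.map_map]
        conv_rhs => rw [← hφM, Subgroup.map_map]
        rfl
      refine ⟨(ψ.subgroupMap V).trans (MulEquiv.subgroupCongr hψ), fun m h => ?_⟩
      rfl
    obtain ⟨u, hu⟩ := hmk s hsQ
    obtain ⟨w, hw⟩ := hmk t htQ
    have hmem : ∀ g : G, g ∈ Subgroup.normalizer (Q : Set G) → ∀ m : M,
        ∃ h : g * ((m : Q) : G) * g⁻¹ ∈ Q, (⟨_, h⟩ : Q) ∈ M := by
      intro g hg m
      refine ⟨(Subgroup.mem_normalizer_iff.mp hg _).mp m.1.2, ?_⟩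
      have hφM : M.map (Q.normalizerMonoidHom ⟨g, hg⟩).toMonoidHom = M :=
        Subgroup.characteristic_iff_map_eq.mp (hchar (n + 1)) _
      exact hφM.le ⟨m.1, m.2, rfl⟩
    have key : ∀ (i j : ℕ) (m : M), ∀ h : (s ^ i * t ^ j) * ((m : Q) : G) * (s ^ i * t ^ j)⁻¹ ∈ Q,
        (((u ^ i * w ^ j) ⟨π m, m, rfl⟩ : V) : Q ⧸ N) = QuotientGroup.mk' N ⟨_, h⟩ := by
      have hpow : ∀ (g : G) (v : MulAut V), g ∈ Subgroup.normalizer (Q : Set G) →
          (∀ (m : M) (h : g * ((m : Q) : G) * g⁻¹ ∈ Q),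
            ((v ⟨π m, m, rfl⟩ : V) : Q ⧸ N) = QuotientGroup.mk' N ⟨g * ((m : Q) : G) * g⁻¹, h⟩) →
          ∀ (k : ℕ) (m : M), ∀ h : g ^ k * ((m : Q) : G) * (g ^ k)⁻¹ ∈ Q,
            (((v ^ k) ⟨π m, m, rfl⟩ : V) : Q ⧸ N) = QuotientGroup.mk' N ⟨_, h⟩ := by
        intro g v hg hv k
        induction k with
        | zero => intro m h; simp [π]
        | succ k ihk =>
          intro m h
          obtain ⟨hq, hqM⟩ := hmem (g ^ k) (Subgroup.pow_mem _ hg k) m
          have e : (v ^ k) ⟨π m, m, rfl⟩ = (⟨π ⟨_, hqM⟩, ⟨_, hqM⟩, rfl⟩ : V) := Subtype.ext (ihk m hq)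
          rw [pow_succ', MulAut.mul_apply, e, hv ⟨_, hqM⟩ (hmem g hg ⟨_, hqM⟩).1]
          congr 2
          show g * (g ^ k * ((m : Q) : G) * (g ^ k)⁻¹) * g⁻¹ = _
          rw [pow_succ']; group
      intro i j m h
      obtain ⟨hq, hqM⟩ := hmem (t ^ j) (Subgroup.pow_mem _ htQ j) m
      have e : (w ^ j) ⟨π m, m, rfl⟩ = (⟨π ⟨_, hqM⟩, ⟨_, hqM⟩, rfl⟩ : V) :=
        Subtype.ext (hpow t w htQ hw j m hq)
      rw [MulAut.mul_apply, e, hpow s u hsQ hu i ⟨_, hqM⟩ (hmem (s ^ i) (Subgroup.pow_mem _ hsQ i) _).1]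
      congr 2
      show s ^ i * (t ^ j * ((m : Q) : G) * (t ^ j)⁻¹) * (s ^ i)⁻¹ = _
      group
    have hone : ∀ i j : ℕ, s ^ i * t ^ j = 1 → u ^ i * w ^ j = 1 := by
      intro i j h1
      ext ⟨v, m, rfl⟩
      rw [MulAut.one_apply, key i j m (by rw [h1]; simp)]
      show QuotientGroup.mk' N _ = QuotientGroup.mk' N m.1
      congr 1
      apply Subtype.ext
      show s ^ i * t ^ j * _ * (s ^ i * t ^ j)⁻¹ = _
      rw [h1]; simp
    have hup : u ^ p = 1 := by simpa using hone p 0 (by simp [hs])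
    have hwp : w ^ p = 1 := by simpa using hone 0 p (by simp [ht])
    have huw : u * w = w * u := by
      ext ⟨v, m, rfl⟩
      obtain ⟨hq, hqM⟩ := hmem s hsQ m
      have e : u ⟨π m, m, rfl⟩ = (⟨π ⟨_, hqM⟩, ⟨_, hqM⟩, rfl⟩ : V) := Subtype.ext (hu m hq)
      have h11 := key 1 1 m (by simpa using (hmem (s * t) (mul_mem hsQ htQ) m).1)
      simp only [pow_one] at h11
      rw [h11, MulAut.mul_apply, e, hw ⟨_, hqM⟩ (hmem t htQ ⟨_, hqM⟩).1]
      congr 2
      show s * t * _ * (s * t)⁻¹ = t * (s * _ * s⁻¹) * t⁻¹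
      rw [hst]; group
    -- the preimage of Y in V
    have hNM : N ≤ M := Subgroup.upperCentralSeries_mono Q (Nat.le_succ n)
    let YV : Subgroup V := ((Y.comap Q.subtype).map (QuotientGroup.mk' N)).comap V.subtype
    have hYV : ∀ i j : ℕ, (i < p ∧ j = 1) ∨ (i = 1 ∧ j = 0) →
        ∀ v : V, (u ^ i * w ^ j) v = v → v ∈ YV := by
      rintro i j hij ⟨v, m, rfl⟩ hfix
      set g := s ^ i * t ^ j with hg
      have hgQ : g ∈ Subgroup.normalizer (Q : Set G) :=
        mul_mem (Subgroup.pow_mem _ hsQ i) (Subgroup.pow_mem _ htQ j)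
      have hgp : g ^ p = 1 := by
        rw [hg, ((Commute.pow_pow hst i j)).mul_pow, ← pow_mul, ← pow_mul, mul_comm i, mul_comm j,
          pow_mul, pow_mul, hs, ht]; simp
      obtain ⟨hq, hqM⟩ := hmem g hgQ m
      have hfix' : QuotientGroup.mk' N ⟨_, hq⟩ = QuotientGroup.mk' N m.1 := by
        rw [← key i j m hq, hfix]; rfl
      set NG := N.map Q.subtype with hNG
      have hAN : Subgroup.zpowers g ≤ Subgroup.normalizer (NG : Set G) := by
        have hsub : ∀ b : G, b ∈ Subgroup.normalizer (Q : Set G) → ∀ y ∈ NG, b * y * b⁻¹ ∈ NG := by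
          rintro b hb y ⟨y, hy, rfl⟩
          exact ⟨Q.normalizerMonoidHom ⟨b, hb⟩ y,
            (Subgroup.characteristic_iff_map_eq.mp (hchar n) (Q.normalizerMonoidHom ⟨b, hb⟩)).le ⟨y, hy, rfl⟩, rfl⟩
        rw [Subgroup.zpowers_le, Subgroup.mem_normalizer_iff]
        intro y
        refine ⟨hsub g hgQ y, fun hy => ?_⟩
        have := hsub g⁻¹ (inv_mem hgQ) _ hy
        simpa [mul_assoc] using this
      have hA : IsPGroup p (Subgroup.zpowers g) := fun a => ⟨1, Subtype.ext (by
        obtain ⟨k, hk⟩ := Subgroup.mem_zpowers_iff.mp a.2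
        rw [pow_one, Subgroup.coe_pow, Subgroup.coe_one, ← hk, ← zpow_natCast, ← zpow_mul,
          mul_comm, zpow_mul, zpow_natCast, hgp, one_zpow])⟩
      have hNGc : ¬ p ∣ Nat.card NG := fun h => hQ (h.trans
        (Subgroup.card_dvd_of_le (Subgroup.map_subtype_le N)))
      have hbase : ((m : Q) : G)⁻¹ * (g * ((m : Q) : G) * g⁻¹) ∈ NG :=
        ⟨(m : Q)⁻¹ * ⟨_, hq⟩, (QuotientGroup.eq (s := N)).mp (show (((m : Q)) : Q ⧸ N) = ((⟨_, hq⟩ : Q) : Q ⧸ N) from hfix'.symm), rfl⟩
      have hx : ∀ a ∈ Subgroup.zpowers g, ((m : Q) : G)⁻¹ * (a * ((m : Q) : G) * a⁻¹) ∈ NG := by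
        let S : Subgroup G :=
          { carrier := {a | a ∈ Subgroup.normalizer (NG : Set G) ∧
              ((m : Q) : G)⁻¹ * (a * ((m : Q) : G) * a⁻¹) ∈ NG}
            one_mem' := ⟨one_mem _, by simp⟩
            mul_mem' := fun {a b} ha hb => ⟨mul_mem ha.1 hb.1, by
              have h1 := (Subgroup.mem_normalizer_iff.mp ha.1 _).mp hb.2
              convert mul_mem ha.2 h1 using 1; group⟩
            inv_mem' := fun {a} ha => ⟨inv_mem ha.1, by
              have h1 := (Subgroup.mem_normalizer_iff.mp (inv_mem ha.1) _).mp (inv_mem ha.2)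
              convert h1 using 1; group⟩ }
        intro a ha
        exact ((Subgroup.zpowers_le.mpr (show g ∈ S from ⟨hAN (Subgroup.mem_zpowers g), hbase⟩)) ha).2
      obtain ⟨k, hk, hkc⟩ := exists_fixed_in_coset hA hNGc hAN hx
      obtain ⟨k', hk', rfl⟩ := hk
      show π m ∈ (Y.comap Q.subtype).map (QuotientGroup.mk' N)
      refine ⟨m.1 * k', ?_, ?_⟩
      · show ((m : Q) : G) * (k' : G) ∈ Y
        exact hY i j hij ⟨Q.mul_mem m.1.2 k'.2, Subgroup.centralizer_le
          (Set.singleton_subset_iff.mpr (Subgroup.mem_zpowers g)) hkc⟩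
      · show QuotientGroup.mk' N (m.1 * k') = QuotientGroup.mk' N m.1
        rw [map_mul, (QuotientGroup.eq_one_iff k').mpr hk' |> fun h => show QuotientGroup.mk' N k' = 1 from h,
          mul_one]
    set v : V := ⟨π ⟨z, hz⟩, ⟨z, hz⟩, rfl⟩
    have h1 : v ^ p ∈ YV := pow_mem_of_abelian_action u w hup hwp huw YV hYV v
    -- p is invertible on Q
    have hcop : (Nat.card Q).Coprime p := ((Fact.out : p.Prime).coprime_iff_not_dvd.mpr hQ).symm
    have h2 : v ∈ YV := by
      have hv : orderOf v ∣ Nat.card Q := by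
        have e1 : orderOf v ∣ orderOf (⟨z, hz⟩ : M) := orderOf_map_dvd π.rangeRestrict ⟨z, hz⟩
        have e2 : orderOf (⟨z, hz⟩ : M) ∣ Nat.card Q :=
          (orderOf_dvd_natCard _).trans (Subgroup.card_subgroup_dvd_card M)
        exact e1.trans e2
      obtain ⟨k, hk⟩ := exists_pow_eq_self_of_coprime (hcop.coprime_dvd_left hv).symm
      rw [← hk]
      exact YV.pow_mem h1 k
    obtain ⟨y, hy, hyz⟩ := h2
    have hk : y⁻¹ * z ∈ N := QuotientGroup.eq.mp hyz
    have := Y.mul_mem (show (y : G) ∈ Y from hy) (ih ⟨_, hk, rfl⟩)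
    simpa using this

/-- A `p'`-group normalized by two commuting elements `s, t` of order dividing `p` lies in any subgroup
containing the fixed points of `s^i t` (`i < p`) and of `s`. -/
theorem le_of_centralizers_le [Finite G] [Fact p.Prime] (s t : G) (hs : s ^ p = 1) (ht : t ^ p = 1)
    (hst : s * t = t * s) (X Y : Subgroup G) (hX : ¬ p ∣ Nat.card X)
    (hsX : s ∈ Subgroup.normalizer (X : Set G)) (htX : t ∈ Subgroup.normalizer (X : Set G))
    (hY : ∀ i j : ℕ, (i < p ∧ j = 1) ∨ (i = 1 ∧ j = 0) →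
      X ⊓ Subgroup.centralizer {s ^ i * t ^ j} ≤ Y) : X ≤ Y := by
  classical
  set A := Subgroup.closure ({s, t} : Set G) with hA
  have hcomm : IsMulCommutative A := by
    apply Subgroup.isMulCommutative_closure
    rintro a (rfl | rfl) b (rfl | rfl) <;> simp [hst]
  have hAp : IsPGroup p A := by
    intro a
    refine ⟨1, Subtype.ext ?_⟩
    rw [pow_one, Subgroup.coe_pow, Subgroup.coe_one]
    obtain ⟨a, ha⟩ := a
    induction ha using Subgroup.closure_induction with
    | mem x hx => rcases hx with rfl | rfl <;> assumption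
    | one => simp
    | mul x y hx hy ihx ihy =>
      have hxy : Commute x y := congrArg Subtype.val (mul_comm' (⟨x, hx⟩ : A) ⟨y, hy⟩)
      show (x * y) ^ p = 1
      rw [hxy.mul_pow]
      simp only at ihx ihy
      rw [ihx, ihy, one_mul]
    | inv x _ ih =>
      show x⁻¹ ^ p = 1
      simp only at ih
      rw [inv_pow, ih, inv_one]
  have hAX : A ≤ Subgroup.normalizer (X : Set G) := by
    rw [hA, Subgroup.closure_le]
    rintro a (rfl | rfl) <;> assumption
  apply le_of_forall_sylow_le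
  intro q hq
  haveI : Fact q.Prime := ⟨hq⟩
  obtain ⟨Q, hQ⟩ := exists_invariant_sylow hAp hX hAX q
  refine ⟨(Q : Subgroup X).map X.subtype, Subgroup.map_subtype_le _, ?_, ?_⟩
  · have hle : (Q : Subgroup X).map X.subtype ≤ X := Subgroup.map_subtype_le _
    refine nilpotent_le_of_centralizers_le s t hs ht hst _ Y
      (fun h => hX (h.trans (Subgroup.card_dvd_of_le hle))) (Q.2.map X.subtype).isNilpotent
      (hQ (Subgroup.subset_closure (by simp))) (hQ (Subgroup.subset_closure (by simp))) ?_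
    intro i j hij
    exact le_trans (inf_le_inf_right _ hle) (hY i j hij)
  · rw [Subgroup.relIndex, Subgroup.subgroupOf, Subgroup.comap_map_eq_self_of_injective X.subtype_injective]
    exact Q.not_dvd_index

/-- A `p'`-group normalized by an elementary abelian `p`-group `B` is generated by the centralizers of the
subgroups of `B` of index at most `p`. -/
theorem le_of_centralizers_corank_one [Finite G] [Fact p.Prime] {B : Subgroup G}
    (hB : Cfsg.IsElementaryAbelian p B) (X Y : Subgroup G) (hX : ¬ p ∣ Nat.card X)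
    (hBX : B ≤ Subgroup.normalizer (X : Set G))
    (hY : ∀ B' : Subgroup G, B' ≤ B → Nat.card B ≤ p * Nat.card B' →
      X ⊓ Subgroup.centralizer (B' : Set G) ≤ Y) : X ≤ Y := by
  classical
  have hp : p.Prime := Fact.out
  induction hn : Nat.card B using Nat.strong_induction_on generalizing B X with
  | _ n ih =>
  have hcomm : ∀ a ∈ B, ∀ b ∈ B, a * b = b * a := fun a ha b hb => by
    haveI := hB.1
    exact congrArg Subtype.val (mul_comm' (⟨a, ha⟩ : B) ⟨b, hb⟩)
  by_cases hsmall : Nat.card B ≤ p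
  · refine le_trans ?_ (hY ⊥ bot_le (by simpa using hsmall))
    refine le_inf le_rfl ?_
    intro x _
    rw [Subgroup.mem_centralizer_iff]
    simp
  have hBp : IsPGroup p B := fun b => ⟨1, Subtype.ext (by
    rw [pow_one]; simpa using hB.2 b.1 b.2)⟩
  obtain ⟨m, hm⟩ := hBp.exists_card_eq
  have hm2 : 2 ≤ m := by
    by_contra hlt
    interval_cases m <;> simp_all
    · exact absurd hp.one_lt.le (by omega)
  -- a maximal subgroup and an element outside
  obtain ⟨B₀', hB₀⟩ := Sylow.exists_subgroup_card_pow_prime (G := B) p (n := m - 1)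
    (by rw [hm]; exact pow_dvd_pow p (by omega))
  set B₀ := B₀'.map B.subtype
  have hB₀B : B₀ ≤ B := Subgroup.map_subtype_le _
  have hB₀c : Nat.card B₀ = p ^ (m - 1) := by
    rw [Subgroup.card_map_of_injective B.subtype_injective, hB₀]
  have hlt : B₀ < B := lt_of_le_of_ne hB₀B fun h => by
    rw [h, hm] at hB₀c
    have := Nat.pow_right_injective hp.two_le hB₀c
    omega
  obtain ⟨t, htB, htB₀⟩ := SetLike.exists_of_lt hlt
  obtain ⟨s, hsB₀, hs1⟩ : ∃ s ∈ B₀, s ≠ 1 := by
    apply B₀.bot_or_exists_ne_one.resolve_left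
    intro h
    rw [h, Subgroup.card_bot] at hB₀c
    have := Nat.one_lt_pow (n := m - 1) (by omega) hp.one_lt
    omega
  refine le_of_centralizers_le (p := p) s t (hB.2 s (hB₀B hsB₀)) (hB.2 t htB)
    (hcomm s (hB₀B hsB₀) t htB) X Y hX (hBX (hB₀B hsB₀)) (hBX htB) ?_
  intro i j hij
  set b := s ^ i * t ^ j with hb
  have hbB : b ∈ B := B.mul_mem (B.pow_mem (hB₀B hsB₀) i) (B.pow_mem htB j)
  have hb1 : b ≠ 1 := by
    rcases hij with ⟨_, rfl⟩ | ⟨rfl, rfl⟩
    · intro h
      apply htB₀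
      have : t = (s ^ i)⁻¹ := by
        rw [hb, pow_one] at h
        exact eq_inv_of_mul_eq_one_right h
      rw [this]
      exact B₀.inv_mem (B₀.pow_mem hsB₀ i)
    · simpa [hb] using hs1
  -- B₁ a maximal subgroup of B avoiding b
  obtain ⟨B₁', hB₁max, hB₁b⟩ : ∃ B₁ : Subgroup B, Maximal (fun H : Subgroup B => (⟨b, hbB⟩ : B) ∉ H) B₁ ∧ (⟨b, hbB⟩ : B) ∉ B₁ := by
    obtain ⟨H, -, hH⟩ := Finite.exists_le_maximal (p := fun H : Subgroup B => (⟨b, hbB⟩ : B) ∉ H) (a := ⊥)
      (by rw [Subgroup.mem_bot]; exact fun h => hb1 (congrArg Subtype.val h))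
    exact ⟨H, hH, hH.prop⟩
  haveI := hB.1
  have hcover : ∀ x : B, ∃ k : ℕ, x * (⟨b, hbB⟩ : B) ^ k ∈ B₁' := by
    intro x
    by_cases hx : x ∈ B₁'
    · exact ⟨0, by simpa using hx⟩
    have hlt' : B₁' < B₁' ⊔ Subgroup.zpowers x := lt_of_le_of_ne le_sup_left fun h =>
      hx (h ▸ Subgroup.mem_sup_right (Subgroup.mem_zpowers x))
    have hbmem : (⟨b, hbB⟩ : B) ∈ B₁' ⊔ Subgroup.zpowers x := by
      by_contra hh
      exact (hB₁max.le_of_ge hh hlt'.le).not_gt hlt'
    rw [Subgroup.mem_sup_of_normal_left] at hbmem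
    obtain ⟨u, hu, v, hv, huv⟩ := hbmem
    obtain ⟨k, rfl⟩ := mem_powers_iff_mem_zpowers.mpr hv
    have hxp : x ^ p = 1 := Subtype.ext (by simpa using hB.2 x.1 x.2)
    simp only at huv
    have hk : ¬ p ∣ k := by
      rintro ⟨r, rfl⟩
      simp only [pow_mul, hxp, one_pow, mul_one] at huv
      exact hB₁b (huv ▸ hu)
    obtain ⟨r, -, hr⟩ := Nat.exists_mul_mod_eq_one_of_coprime ((hp.coprime_iff_not_dvd.mpr hk).symm) hp.one_lt
    refine ⟨(p - 1) * r, ?_⟩
    have hxr : x ^ (k * r) = x := by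
      rw [pow_eq_pow_mod (k * r) hxp, hr, pow_one]
    have : x * (⟨b, hbB⟩ : B) ^ ((p - 1) * r) = u ^ ((p - 1) * r) * x ^ (1 + k * r * (p - 1)) := by
      rw [← huv, (show Commute u (x ^ k) from mul_comm' _ _).mul_pow, ← pow_mul, pow_add, pow_one,
        show k * ((p - 1) * r) = k * r * (p - 1) by ring, ← mul_assoc, mul_comm' x (u ^ ((p - 1) * r)), mul_assoc]
    rw [this, pow_add, pow_one, pow_mul x (k * r), hxr, ← pow_succ', Nat.sub_add_cancel hp.one_lt.le, hxp, mul_one]
    exact B₁'.pow_mem hu _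
  set B₁ := B₁'.map B.subtype
  have hB₁B : B₁ ≤ B := Subgroup.map_subtype_le _
  have hB₁lt : Nat.card B₁ < n := by
    rw [← hn, Subgroup.card_map_of_injective B.subtype_injective]
    apply lt_of_le_of_ne (Subgroup.card_le_card_group _)
    intro h
    exact hB₁b (Subgroup.eq_top_of_card_eq _ h ▸ Subgroup.mem_top _)
  have hB₁e : Cfsg.IsElementaryAbelian p B₁ :=
    ⟨Subgroup.le_centralizer_iff_isMulCommutative.mp (fun x hx => Subgroup.mem_centralizer_iff.mpr
      fun y hy => hcomm y (hB₁B hy) x (hB₁B hx)), fun a ha => hB.2 a (hB₁B ha)⟩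
  have hbX : B₁ ≤ Subgroup.normalizer ((X ⊓ Subgroup.centralizer {b} : Subgroup G) : Set G) := by
    intro a ha
    rw [Subgroup.mem_normalizer_iff]
    intro y
    have hc := hcomm a (hB₁B ha) b hbB
    simp only [Subgroup.mem_inf, Subgroup.mem_centralizer_singleton_iff]
    rw [← (Subgroup.mem_normalizer_iff.mp (hBX (hB₁B ha)) y)]
    have : a * y * a⁻¹ * b = b * (a * y * a⁻¹) ↔ y * b = b * y := by
      constructor
      · intro h
        calc y * b = a⁻¹ * (a * y * a⁻¹ * (a * b * a⁻¹)) * a := by group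
          _ = a⁻¹ * (a * y * a⁻¹ * b) * a := by rw [hc, mul_inv_cancel_right]
          _ = a⁻¹ * (b * (a * y * a⁻¹)) * a := by rw [h]
          _ = a⁻¹ * b * a * y := by group
          _ = b * y := by rw [mul_assoc a⁻¹ b a, ← hc, inv_mul_cancel_left]
      · intro h
        have e : a * b * a⁻¹ = b := by rw [hc, mul_inv_cancel_right]
        calc a * y * a⁻¹ * b = a * y * a⁻¹ * (a * b * a⁻¹) := by rw [e]
          _ = a * (y * b) * a⁻¹ := by group
          _ = a * (b * y) * a⁻¹ := by rw [h]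
          _ = a * b * a⁻¹ * (a * y * a⁻¹) := by group
          _ = b * (a * y * a⁻¹) := by rw [e]
    rw [this]
  refine ih (Nat.card B₁) hB₁lt (B := B₁) hB₁e _ ?_ hbX ?_ rfl
  · exact fun h => hX (h.trans (Subgroup.card_dvd_of_le inf_le_left))
  · intro B' hB' hcard
    refine le_trans ?_ (hY (B' ⊔ Subgroup.zpowers b) (sup_le (hB'.trans hB₁B) (Subgroup.zpowers_le.mpr hbB)) ?_)
    · rintro x ⟨⟨hx1, hx2⟩, hx3⟩
      refine ⟨hx1, ?_⟩
      show x ∈ Subgroup.centralizer _
      rw [Subgroup.mem_centralizer_iff]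
      have : B' ⊔ Subgroup.zpowers b ≤ Subgroup.centralizer {x} := by
        refine sup_le (fun y hy => ?_) (Subgroup.zpowers_le.mpr ?_)
        · rw [Subgroup.mem_centralizer_singleton_iff]
          exact Subgroup.mem_centralizer_iff.mp hx3 y hy
        · rw [Subgroup.mem_centralizer_singleton_iff]
          exact (Subgroup.mem_centralizer_singleton_iff.mp hx2).symm
      intro y hy
      exact Subgroup.mem_centralizer_singleton_iff.mp (this hy)
    · -- |B| ≤ p * |B' ⊔ ⟨b⟩|
      have hBle : Nat.card B ≤ Nat.card B₁ * p := by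
        have hsurj : Function.Surjective (fun x : B₁' × Fin p => (x.1 : B) * (⟨b, hbB⟩ : B) ^ (x.2 : ℕ)) := by
          intro x
          obtain ⟨k, hk⟩ := hcover x
          have hbp : (⟨b, hbB⟩ : B) ^ p = 1 := Subtype.ext (by simpa using hB.2 b hbB)
          refine ⟨(⟨_, hk⟩, ⟨((p - 1) * k) % p, Nat.mod_lt _ hp.pos⟩), ?_⟩
          simp only
          rw [← pow_eq_pow_mod _ hbp, mul_assoc, ← pow_add, Nat.add_comm k, ← Nat.succ_mul, Nat.succ_eq_add_one,
            Nat.sub_add_cancel hp.one_lt.le, pow_mul, hbp, one_pow, mul_one]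
        have := Nat.card_le_card_of_surjective _ hsurj
        rw [Nat.card_prod, Nat.card_eq_fintype_card (α := Fin p), Fintype.card_fin] at this
        rwa [show Nat.card B₁ = Nat.card B₁' from Subgroup.card_map_of_injective B.subtype_injective]
      have hbB' : Nat.card B' * p ≤ Nat.card ↥(B' ⊔ Subgroup.zpowers b) := by
        have hdis : B' < B' ⊔ Subgroup.zpowers b := lt_of_le_of_ne le_sup_left fun h => by
          have hbm : b ∈ B' := h ▸ Subgroup.mem_sup_right (Subgroup.mem_zpowers b)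
          obtain ⟨z, hz, hzb⟩ := hB' hbm
          exact hB₁b ((Subtype.ext hzb : z = (⟨b, hbB⟩ : B)) ▸ hz)
        have hp' : IsPGroup p ↥(B' ⊔ Subgroup.zpowers b) :=
          hBp.to_le (sup_le (hB'.trans hB₁B) (Subgroup.zpowers_le.mpr hbB))
        obtain ⟨k, hk⟩ := hp'.exists_card_eq
        obtain ⟨l, hl⟩ := (hp'.to_le hdis.le).exists_card_eq
        have hklt : Nat.card B' < Nat.card ↥(B' ⊔ Subgroup.zpowers b) :=
          lt_of_not_ge fun h => hdis.ne (Subgroup.eq_of_le_of_card_ge hdis.le h)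
        rw [hk, hl] at hklt ⊢
        rw [← pow_succ]
        exact Nat.pow_le_pow_right hp.pos (by
          have := (Nat.pow_lt_pow_iff_right hp.one_lt).mp hklt; omega)
      calc Nat.card B ≤ Nat.card B₁ * p := hBle
        _ ≤ (p * Nat.card B') * p := Nat.mul_le_mul_right p hcard
        _ ≤ p * Nat.card ↥(B' ⊔ Subgroup.zpowers b) := by rw [mul_assoc]; exact Nat.mul_le_mul_left p hbB'

end CfsgLib.Tech46
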