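import Cfsg.Agent.S1312
import Cfsg.Agent.Lib.Components.Local
import Cfsg.Prelude.Def_EvenTechniques

/-!
# Bender's uniqueness theorem for a pair of maximal subgroups
-/

set_option autoImplicit false
open scoped commutatorElement Pointwise

namespace Cfsg.Tech46.Bender

open Subgroup Cfsg.Agent.S1312

variable {G : Type*} [Group G] [Finite G]

/-- The center of `O_p(M)`, inside `G`. -/
def zCore (p : ℕ) (M : Subgroup G) : Subgroup G :=
  coreIn p M ⊓ centralizer (coreIn p M : Set G)

theorem coreIn_isPGroup {p : ℕ} (hp : p.Prime) (M : Subgroup G) : IsPGroup p (coreIn p M) :=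
  haveI := Fact.mk hp
  CfsgLib.PCore.pCore_isPGroup.map _

theorem coreIn_le_normalizer (p : ℕ) (M : Subgroup G) :
    M ≤ normalizer (coreIn p M : Set G) := by
  haveI := Cfsg.pCore_normal p M
  exact le_normalizer_map (Cfsg.pCore p M)

theorem le_normalizer_centralizer (X : Subgroup G) :
    normalizer (X : Set G) ≤ normalizer (centralizer (X : Set G) : Set G) := by
  rw [le_normalizer_iff]
  intro m hm c hc
  rw [mem_centralizer_iff]
  intro y hy
  have h := mem_centralizer_iff.mp hc (m⁻¹ * y * m⁻¹⁻¹)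
    ((mem_normalizer_iff.mp (inv_mem hm) y).mp hy)
  calc y * (m * c * m⁻¹) = m * ((m⁻¹ * y * m⁻¹⁻¹) * c) * m⁻¹ := by group
    _ = m * (c * (m⁻¹ * y * m⁻¹⁻¹)) * m⁻¹ := by rw [h]
    _ = m * c * m⁻¹ * y := by group

theorem zCore_le (p : ℕ) (M : Subgroup G) : zCore p M ≤ M :=
  inf_le_left.trans (coreIn_le p M)

theorem zCore_le_normalizer (p : ℕ) (M : Subgroup G) : M ≤ normalizer (zCore p M : Set G) :=
  (le_inf (coreIn_le_normalizer p M)
    ((coreIn_le_normalizer p M).trans (le_normalizer_centralizer _))).trans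
      inf_normalizer_le_normalizer_inf

theorem coreIn_ne_bot {p : ℕ} (hp : p.Prime) {M : Subgroup G}
    (h : p ∣ Nat.card (Cfsg.fittingSubgroup M)) : coreIn p M ≠ ⊥ := by
  haveI := Fact.mk hp
  intro hb
  have hb' : Cfsg.pCore p M = ⊥ :=
    (Subgroup.map_eq_bot_iff_of_injective _ (subtype_injective M)).mp hb
  let P : Sylow p (Cfsg.fittingSubgroup M) := default
  have hP := CfsgLib.Fitting.sylow_fitting_eq_pCore P
  rw [hb', Subgroup.map_eq_bot_iff_of_injective _ (subtype_injective _)] at hP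
  exact P.ne_bot_of_dvd_card h hP

theorem coreIn_eq_bot {p : ℕ} (hp : p.Prime) {M : Subgroup G}
    (h : ¬ p ∣ Nat.card (Cfsg.fittingSubgroup M)) : coreIn p M = ⊥ := by
  haveI := Fact.mk hp
  by_contra hb
  have hb' : Cfsg.pCore p M ≠ ⊥ := fun e => hb (by rw [coreIn, e, Subgroup.map_bot])
  apply h
  haveI : Nontrivial (Cfsg.pCore p M) := (nontrivial_iff_ne_bot _).mpr hb'
  obtain ⟨k, hk, hc⟩ :=
    (CfsgLib.PCore.pCore_isPGroup (p := p) (G := M)).nontrivial_iff_card.mp inferInstance
  refine dvd_trans ?_ (card_dvd_of_le (CfsgLib.Fitting.pCore_le_fitting hp))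
  rw [hc]
  exact dvd_pow_self p hk.ne'

theorem zCore_ne_bot {p : ℕ} (hp : p.Prime) {M : Subgroup G}
    (h : p ∣ Nat.card (Cfsg.fittingSubgroup M)) : zCore p M ≠ ⊥ := by
  haveI := Fact.mk hp
  haveI : Nontrivial (coreIn p M) := (nontrivial_iff_ne_bot _).mpr (coreIn_ne_bot hp h)
  haveI := (coreIn_isPGroup hp M).center_nontrivial
  obtain ⟨z, hz⟩ := exists_ne (1 : center (coreIn p M))
  intro hb
  apply hz
  have hzm : ((z : coreIn p M) : G) ∈ zCore p M :=
    ⟨(z : coreIn p M).2, mem_centralizer_iff.mpr fun y hy =>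
      congrArg Subtype.val (mem_center_iff.mp z.2 ⟨y, hy⟩)⟩
  rw [hb, mem_bot] at hzm
  exact Subtype.ext (Subtype.ext hzm)

/-- `x` commutes with `y ∈ F(M)` as soon as it commutes with all powers of `y` in the various
`O_r(M)`. -/
theorem commute_of_parts {M : Subgroup G} {x y : G}
    (hy : y ∈ (Cfsg.fittingSubgroup M).map M.subtype)
    (h : ∀ r : ℕ, r.Prime → ∀ z ∈ zpowers y, z ∈ coreIn r M → Commute x z) : Commute x y := by
  have key : ∀ n : ℕ, ∀ z ∈ zpowers y, z ^ n = 1 → 0 < n → Commute x z := by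
    intro n
    induction n using Nat.recOnPosPrimePosCoprime with
    | zero => intro z _ _ h0; exact absurd h0 (lt_irrefl 0)
    | one => intro z _ hz _; rw [pow_one] at hz; rw [hz]; exact Commute.one_right x
    | prime_pow p k hp hk =>
      intro z hz hzn _
      haveI := Fact.mk hp
      obtain ⟨f, hf, hfz⟩ := (zpowers_le.mpr hy : zpowers y ≤ _) hz
      refine h p hp z hz ⟨f, pgroup_le_fitting_le_pCore (A := zpowers f) ?_
        (zpowers_le.mpr hf) (mem_zpowers f), hfz⟩
      have hfn : f ^ p ^ k = 1 := by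
        refine Subtype.ext ?_
        rw [coe_pow, coe_one]
        rw [← hfz] at hzn
        exact hzn
      intro ⟨w, hw⟩
      obtain ⟨i, rfl⟩ := mem_zpowers_iff.mp hw
      refine ⟨k, Subtype.ext ?_⟩
      simp only [SubmonoidClass.coe_pow, OneMemClass.coe_one]
      rw [← zpow_natCast, ← zpow_mul, mul_comm, zpow_mul, zpow_natCast, hfn, one_zpow]
    | coprime a b ha hb hab iha ihb =>
      intro z hz hzn _
      have h1 := iha (z ^ b) (pow_mem hz b) (by rw [← pow_mul, mul_comm, hzn]) (by omega)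
      have h2 := ihb (z ^ a) (pow_mem hz a) (by rw [← pow_mul, hzn]) (by omega)
      have hbez := Nat.gcd_eq_gcd_ab a b
      rw [show Nat.gcd a b = 1 from hab, Nat.cast_one] at hbez
      have hzeq : z = (z ^ a) ^ Nat.gcdA a b * (z ^ b) ^ Nat.gcdB a b := by
        rw [← zpow_natCast z a, ← zpow_natCast z b, ← zpow_mul, ← zpow_mul, ← zpow_add, ← hbez,
          zpow_one]
      rw [hzeq]
      exact (h2.zpow_right _).mul_right (h1.zpow_right _)
  exact key (orderOf y) y (mem_zpowers y) (pow_orderOf_eq_one y) (orderOf_pos y)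

theorem commute_coreIn_of_ne {p q : ℕ} (hp : p.Prime) (hq : q.Prime) (hpq : p ≠ q) {M : Subgroup G}
    {x y : G} (hx : x ∈ coreIn p M) (hy : y ∈ coreIn q M) : Commute x y := by
  obtain ⟨a, ha, rfl⟩ := hx
  obtain ⟨b, hb, rfl⟩ := hy
  exact (CfsgLib.Fitting.commute_pCore_of_ne hp hq hpq ha hb).map M.subtype

theorem zCore_le_centralizer_fitting {p : ℕ} (hp : p.Prime) (M : Subgroup G) :
    zCore p M ≤ centralizer ((Cfsg.fittingSubgroup M).map M.subtype : Set G) := by
  intro z hz
  rw [mem_centralizer_iff]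
  intro y hy
  refine ((commute_of_parts hy fun r hr w _ hw => ?_).symm).eq
  by_cases hrp : r = p
  · subst hrp
    exact ((mem_centralizer_iff.mp hz.2 w hw).symm : Commute z w)
  · exact commute_coreIn_of_ne hp hr (Ne.symm hrp) hz.1 hw

theorem le_of_centralizes_fitting {M N X : Subgroup G} (hMN : Cfsg.leadsTo M N)
    (hX : X ≤ (Cfsg.generalizedFittingSubgroup M).map M.subtype)
    (hc : X ≤ centralizer ((Cfsg.fittingSubgroup M).map M.subtype : Set G)) : X ≤ N := by
  obtain ⟨Q, -, hQF, hQN⟩ := hMN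
  exact (le_inf hX ((hc.trans (centralizer_le (SetLike.coe_subset_coe.mpr hQF))).trans
    (centralizer_le_normalizer _))).trans hQN

theorem zCore_le_of_leadsTo {p : ℕ} (hp : p.Prime) {M N : Subgroup G} (hMN : Cfsg.leadsTo M N) :
    zCore p M ≤ N :=
  le_of_centralizes_fitting hMN
    (inf_le_left.trans (map_mono ((CfsgLib.Fitting.pCore_le_fitting hp).trans
      CfsgLib.Components.fitting_le_generalizedFitting)))
    (zCore_le_centralizer_fitting hp M)

theorem layer_le_of_leadsTo {M N : Subgroup G} (hMN : Cfsg.leadsTo M N) :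
    (Cfsg.layer M).map M.subtype ≤ N := by
  refine le_of_centralizes_fitting hMN (map_mono CfsgLib.Components.layer_le_generalizedFitting) ?_
  rintro _ ⟨e, he, rfl⟩
  rw [mem_centralizer_iff]
  rintro _ ⟨f, hf, rfl⟩
  exact congrArg M.subtype
    (mem_centralizer_iff.mp (CfsgLib.Components.layer_le_centralizer_fitting he) f hf)

/-- `O_r(M) ∩ N` contains its centralizer in `O_r(M)`. -/
theorem mem_of_centralizes_inf {r : ℕ} (hr : r.Prime) {M N : Subgroup G}
    (hMN : Cfsg.leadsTo M N) {x : G} (hx : x ∈ coreIn r M)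
    (hc : x ∈ centralizer ((coreIn r M ⊓ N : Subgroup G) : Set G)) : x ∈ N := by
  obtain ⟨Q, -, hQF, hQN⟩ := hMN
  have hQle : Q ≤ N :=
    (le_inf (hQF.trans (map_mono CfsgLib.Components.fitting_le_generalizedFitting))
      le_normalizer).trans hQN
  refine hQN ⟨map_mono ((CfsgLib.Fitting.pCore_le_fitting hr).trans
    CfsgLib.Components.fitting_le_generalizedFitting) hx, centralizer_le_normalizer _ ?_⟩
  rw [mem_centralizer_iff]
  intro y hy
  refine ((commute_of_parts (hQF hy) fun s hs w hw hws => ?_).symm).eq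
  by_cases hsr : s = r
  · subst hsr
    exact (mem_centralizer_iff.mp hc w ⟨hws, hQle ((zpowers_le.mpr hy : zpowers y ≤ Q) hw)⟩).symm
  · exact commute_coreIn_of_ne hr hs (Ne.symm hsr) hx hws

/-- Two elements whose commutator lies in two subgroups of coprime order commute. -/
theorem commute_of_disjoint {A B : Subgroup G} (hAB : Disjoint A B) {x y : G}
    (hx : x ∈ A) (hy : y ∈ B) (hxB : x ∈ normalizer (B : Set G)) (hyA : y ∈ normalizer (A : Set G)) :
    Commute x y := by
  have hA : x * y * x⁻¹ * y⁻¹ ∈ A := by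
    have : x * (y * x⁻¹ * y⁻¹) ∈ A :=
      mul_mem hx ((mem_normalizer_iff.mp hyA _).mp (inv_mem hx))
    simpa only [mul_assoc] using this
  have hB : x * y * x⁻¹ * y⁻¹ ∈ B :=
    mul_mem ((mem_normalizer_iff.mp hxB y).mp hy) (inv_mem hy)
  have h := Subgroup.disjoint_def.mp hAB hA hB
  rw [mul_inv_eq_one, mul_inv_eq_iff_eq_mul] at h
  exact h

theorem orderOf_coprime_of_isPGroup {p q : ℕ} (hp : p.Prime) (hq : q.Prime) (hpq : p ≠ q)
    {A : Subgroup G} (hA : IsPGroup p A) {x : G} (hx : x ∈ A) : (orderOf x).Coprime q := by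
  haveI := Fact.mk hp
  obtain ⟨n, hn⟩ := IsPGroup.iff_card.mp hA
  exact Nat.Coprime.coprime_dvd_left (hn ▸ orderOf_dvd_natCard A hx)
    (((Nat.coprime_primes hp hq).mpr hpq).pow_left n)

/-- An element of `M` of order prime to `r` centralizing `O_r(M) ∩ N` centralizes `O_r(M)`. -/
theorem mem_centralizer_coreIn {r : ℕ} (hr : r.Prime) {M N : Subgroup G} (hMN : Cfsg.leadsTo M N)
    {x : G} (hxM : x ∈ M) (hx : (orderOf x).Coprime r)
    (hc : x ∈ centralizer ((coreIn r M ⊓ N : Subgroup G) : Set G)) :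
    x ∈ centralizer (coreIn r M : Set G) := by
  haveI := Fact.mk hr
  refine CfsgLib.Components.mem_centralizer_of_AxB (coreIn_isPGroup hr M)
    ((coreIn_isPGroup hr M).to_le inf_le_left) (inf_le_left.trans le_normalizer)
    (coreIn_le_normalizer r M hxM) hc hx fun z hz hzc => ?_
  exact (mem_centralizer_iff.mp hc z ⟨hz, mem_of_centralizes_inf hr hMN hz hzc⟩).symm

/-- `O_q(N) ∩ M = 1` for primes `q` not dividing `|F(M)|`. -/
theorem coreIn_inf_eq_bot {M N : Subgroup G} (hMN : Cfsg.leadsTo M N) {q : ℕ} (hq : q.Prime)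
    (hqM : ¬ q ∣ Nat.card (Cfsg.fittingSubgroup M)) : coreIn q N ⊓ M = ⊥ := by
  haveI := Fact.mk hq
  have h0 := coreIn_eq_bot hq hqM
  have hpc : Cfsg.pCore q M = ⊥ :=
    (Subgroup.map_eq_bot_iff_of_injective _ (subtype_injective M)).mp h0
  have hcF : ∀ x ∈ coreIn q N ⊓ M, ∀ r : ℕ, r.Prime → x ∈ centralizer (coreIn r M : Set G) := by
    intro x hx r hr
    by_cases hrq : r = q
    · subst hrq
      rw [h0, mem_centralizer_iff]
      intro y hy
      rw [Subgroup.mem_bot.mp hy, one_mul, mul_one]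
    refine mem_centralizer_coreIn hr hMN hx.2
      (orderOf_coprime_of_isPGroup hq hr (Ne.symm hrq) (coreIn_isPGroup hq N) hx.1) ?_
    rw [mem_centralizer_iff]
    intro y hy
    exact (commute_of_disjoint
      (IsPGroup.disjoint_of_ne q r (Ne.symm hrq) _ _ (coreIn_isPGroup hq N) (coreIn_isPGroup hr M)
        (hp₁ := ⟨hq⟩) (hp₂ := ⟨hr⟩)) hx.1 hy.1 (coreIn_le_normalizer r M hx.2)
      (coreIn_le_normalizer q N hy.2)).symm.eq
  -- the commutators with the layer
  set E := (Cfsg.layer M).map M.subtype with hE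
  have hEN : E ≤ N := layer_le_of_leadsTo hMN
  have hEn : M ≤ normalizer (E : Set G) := le_normalizer_map (Cfsg.layer M)
  have hT : coreIn q N ⊓ E = ⊥ := by
    have hTM : coreIn q N ⊓ E ≤ M := inf_le_right.trans (map_subtype_le _)
    have hle : (coreIn q N ⊓ E).subgroupOf M ≤ Cfsg.layer M := fun x hx => by
      obtain ⟨e, he, hex⟩ := hx.2
      rwa [← Subtype.ext hex]
    have hsub : ((coreIn q N ⊓ E).subgroupOf M).IsSubnormal := by
      refine IsSubnormal.step _ (Cfsg.layer M) hle (Subgroup.Normal.isSubnormal inferInstance) ?_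
      rw [normal_subgroupOf_iff_le_normalizer hle, le_normalizer_iff]
      intro e he y hy
      refine mem_subgroupOf.mpr ⟨?_, ?_⟩
      · exact le_normalizer_iff.mp (coreIn_le_normalizer q N) (e : G)
          (hEN (mem_map_of_mem _ he)) (y : G) hy.1
      · exact le_normalizer_iff.mp hEn (e : G) e.2 (y : G) hy.2
    have hp' := ((coreIn_isPGroup hq N).to_le (inf_le_left : coreIn q N ⊓ E ≤ _)).comap_subtype
      (K := M)
    have := CfsgLib.PCore.le_pCore_of_isSubnormal hsub hp'
    rw [hpc, le_bot_iff, subgroupOf_eq_bot] at this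
    exact le_bot_iff.mp (fun x hx => Subgroup.disjoint_def.mp this hx (hTM hx))
  rw [eq_bot_iff]
  intro x hx
  have hxF : (⟨x, hx.2⟩ : M) ∈ Cfsg.fittingSubgroup M := by
    refine CfsgLib.Components.centralizer_generalizedFitting_le_fitting ?_
    have : Cfsg.generalizedFittingSubgroup M ≤ centralizer {(⟨x, hx.2⟩ : M)} := by
      refine sup_le ?_ ?_
      · intro e he
        rw [mem_centralizer_singleton_iff]
        refine Subtype.ext ?_
        have hee : (e : G) ∈ E := mem_map_of_mem _ he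
        exact (commute_of_disjoint (disjoint_iff.mpr hT) hx.1 hee (hEn hx.2)
          (coreIn_le_normalizer q N (hEN hee))).symm.eq
      · intro f hf
        rw [mem_centralizer_singleton_iff]
        refine Subtype.ext ?_
        exact ((commute_of_parts (x := x) (mem_map_of_mem M.subtype hf) fun r hr w _ hw =>
          (mem_centralizer_iff.mp (hcF x hx r hr) w hw).symm).symm).eq
    rw [mem_centralizer_iff]
    intro y hy
    exact (mem_centralizer_singleton_iff.mp (this hy))
  obtain ⟨n, hn⟩ := coreIn_isPGroup hq N ⟨x, hx.1⟩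
  have hx1 := pgroup_le_fitting_le_pCore (A := zpowers (⟨x, hx.2⟩ : M))
    (((coreIn_isPGroup hq N).to_le (zpowers_le.mpr hx.1 : zpowers x ≤ _)).comap_subtype.to_le
      (zpowers_le.mpr (mem_subgroupOf.mpr (mem_zpowers x)))) (zpowers_le.mpr hxF) (mem_zpowers _)
  rw [hpc, mem_bot] at hx1
  exact mem_bot.mpr (congrArg Subtype.val hx1)

/-- `O_q(N) ≤ M` if `|F(M)|` has another prime divisor besides `q`. -/
theorem coreIn_le_of_two_primes {M N : Subgroup G}
    (hn : ∀ X : Subgroup G, X ≠ ⊥ → X ≤ M → M ≤ normalizer (X : Set G) → normalizer (X : Set G) = M)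
    (hMN : Cfsg.leadsTo M N) {q r : ℕ} (hq : q.Prime) (hr : r.Prime) (hqr : q ≠ r)
    (hqM : q ∣ Nat.card (Cfsg.fittingSubgroup M)) (hrM : r ∣ Nat.card (Cfsg.fittingSubgroup M)) :
    coreIn q N ≤ M := by
  haveI := Fact.mk hq
  haveI := Fact.mk hr
  have hA := hn _ (zCore_ne_bot hq hqM) (zCore_le q M) (zCore_le_normalizer q M)
  have hB := hn _ (zCore_ne_bot hr hrM) (zCore_le r M) (zCore_le_normalizer r M)
  have hBR : zCore r M ≤ centralizer (coreIn q N : Set G) := by
    intro b hb
    refine CfsgLib.Components.mem_centralizer_of_AxB (coreIn_isPGroup hq N)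
      ((coreIn_isPGroup hq M).to_le inf_le_left)
      ((zCore_le_of_leadsTo hq hMN).trans (coreIn_le_normalizer q N))
      (coreIn_le_normalizer q N (zCore_le_of_leadsTo hr hMN hb)) ?_
      (orderOf_coprime_of_isPGroup hr hq (Ne.symm hqr) (coreIn_isPGroup hr M) hb.1) fun z hz hzc => ?_
    · rw [mem_centralizer_iff]
      exact fun a ha => (commute_coreIn_of_ne hq hr hqr ha.1 hb.1).eq
    · have hzM : z ∈ M := hA ▸ centralizer_le_normalizer _ hzc
      exact (commute_of_disjoint
        (IsPGroup.disjoint_of_ne q r hqr _ _ (coreIn_isPGroup hq N) (coreIn_isPGroup hr M))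
        hz hb.1 (coreIn_le_normalizer r M hzM)
        (coreIn_le_normalizer q N (zCore_le_of_leadsTo hr hMN hb))).symm.eq
  exact ((le_centralizer_iff.mp hBR).trans (centralizer_le_normalizer _)).trans hB.le

/-- Components of `N` are components of `M` when the layers lie in both subgroups. -/
theorem layer_le_layer {M N : Subgroup G} (hMN : Cfsg.leadsTo M N)
    (hN : (Cfsg.layer N).map N.subtype ≤ M) :
    (Cfsg.layer N).map N.subtype ≤ (Cfsg.layer M).map M.subtype := by
  have hM := layer_le_of_leadsTo hMN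
  rw [map_le_iff_le_comap]
  refine sSup_le fun L hL => map_le_iff_le_comap.mp ?_
  set L' := L.map N.subtype with hL'
  have hLM : L' ≤ M := (map_mono (CfsgLib.Components.component_le_layer hL)).trans hN
  have hLD : L' ≤ M ⊓ N := le_inf hLM (map_subtype_le L)
  have hcomp : ∀ (A : Subgroup G) (K : Subgroup A), Cfsg.IsComponent K → M ⊓ N ≤ A →
      K.map A.subtype ≤ M ⊓ N → Cfsg.IsComponent ((K.map A.subtype).subgroupOf (M ⊓ N)) := by
    intro A K hK hA hle
    have hle' : K ≤ (M ⊓ N).subgroupOf A := fun x hx => hle (mem_map_of_mem _ hx)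
    have h1 := CfsgLib.Components.isComponent_map_equiv (subgroupOfEquivOfLe hA)
      (CfsgLib.Components.isComponent_subgroupOf hK hle')
    have h2 : (K.subgroupOf ((M ⊓ N).subgroupOf A)).map (subgroupOfEquivOfLe hA).toMonoidHom =
        (K.map A.subtype).subgroupOf (M ⊓ N) := by
      apply map_injective (subtype_injective (M ⊓ N))
      rw [map_map, map_subgroupOf_eq_of_le hle]
      conv_rhs => rw [← map_subgroupOf_eq_of_le hle', map_map]
      rfl
    rwa [h2] at h1
  have hLc := hcomp N L hL inf_le_right hLD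
  by_cases hex : ∃ K : Subgroup M, Cfsg.IsComponent K ∧ K.map M.subtype = L'
  · obtain ⟨K, hK, he⟩ := hex
    exact he.ge.trans (map_mono (CfsgLib.Components.component_le_layer hK))
  exfalso
  have hc1 : (Cfsg.layer M).map M.subtype ≤ centralizer (L' : Set G) := by
    rw [map_le_iff_le_comap]
    refine sSup_le fun K hK => map_le_iff_le_comap.mp ?_
    have hKD : K.map M.subtype ≤ M ⊓ N := le_inf (map_subtype_le _)
      ((map_mono (CfsgLib.Components.component_le_layer hK)).trans hM)
    refine CfsgLib.Components.le_centralizer_of_commutator_eq_bot ?_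
    rw [← CfsgLib.Components.commutator_subgroupOf_eq_bot_iff hKD hLD]
    refine CfsgLib.Components.commutator_components_eq_bot (hcomp M K hK inf_le_left hKD) hLc
      fun h => hex ⟨K, hK, ?_⟩
    rw [← map_subgroupOf_eq_of_le hKD, h, map_subgroupOf_eq_of_le hLD]
  have hperf : ⁅L', L'⁆ = L' := by
    rw [hL', ← Subgroup.map_commutator, CfsgLib.Components.component_commutator_self hL]
  have hc2 : ∀ r : ℕ, r.Prime → L' ≤ centralizer (coreIn r M : Set G) := by
    intro r hr
    haveI := Fact.mk hr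
    set D := coreIn r M ⊓ N with hD
    have hDD : D ≤ M ⊓ N := inf_le_inf_right N (coreIn_le r M)
    have hLnD : L' ≤ normalizer (D : Set G) :=
      (le_inf (hLM.trans (coreIn_le_normalizer r M))
        ((map_subtype_le L).trans le_normalizer)).trans inf_normalizer_le_normalizer_inf
    have hLcD : L' ≤ centralizer (D : Set G) := by
      refine CfsgLib.Components.le_centralizer_of_commutator_eq_bot ?_
      rw [← CfsgLib.Components.commutator_subgroupOf_eq_bot_iff hLD hDD]
      have hDs : Group.IsSolvable (D.subgroupOf (M ⊓ N)) :=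
        haveI : Group.IsNilpotent (D.subgroupOf (M ⊓ N)) :=
          (((coreIn_isPGroup hr M).to_le (inf_le_left : D ≤ _)).comap_subtype
            (K := M ⊓ N)).isNilpotent
        inferInstance
      refine CfsgLib.Components.component_commutator_solvable hLc hDs ?_
      rw [le_normalizer_iff]
      intro l hl y hy
      exact mem_subgroupOf.mpr (le_normalizer_iff.mp hLnD (l : G) (mem_subgroupOf.mp hl) (y : G)
        (mem_subgroupOf.mp hy))
    exact CfsgLib.Components.le_of_forall_coprime_mem_of_perfect (p := r) hperf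
      ((hLM.trans (coreIn_le_normalizer r M)).trans (le_normalizer_centralizer _))
      fun x hx hxo => mem_centralizer_coreIn hr hMN (hLM hx) hxo (hLcD hx)
  have hc3 : L'.subgroupOf M ≤ Cfsg.fittingSubgroup M := by
    refine le_trans ?_ CfsgLib.Components.centralizer_generalizedFitting_le_fitting
    refine le_centralizer_iff.mp (sup_le ?_ ?_)
    · intro e he
      rw [mem_centralizer_iff]
      exact fun l hl => Subtype.ext (mem_centralizer_iff.mp (hc1 (mem_map_of_mem _ he)) _ hl)
    · intro e he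
      rw [mem_centralizer_iff]
      exact fun l hl => Subtype.ext (commute_of_parts (mem_map_of_mem M.subtype he)
        fun r hr w _ hw => (mem_centralizer_iff.mp (hc2 r hr hl) w hw).symm).eq
  haveI := CfsgLib.Components.fitting_isSolvable (G := M)
  refine CfsgLib.Components.component_not_isSolvable hL ?_
  exact Group.isSolvable_of_isSolvable_injective
    (f := (inclusion hc3).comp ((L.equivMapOfInjective _ (subtype_injective N)).trans
      (subgroupOfEquivOfLe hLM).symm).toMonoidHom)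
    ((inclusion_injective hc3).comp (MulEquiv.injective _))

/-- In a simple group the normalizer of a nontrivial normal subgroup of a maximal subgroup is that
maximal subgroup. -/
theorem normalizer_eq_of_isCoatom [IsSimpleGroup G] {M : Subgroup G} (hM : IsCoatom M)
    (X : Subgroup G) (hX : X ≠ ⊥) (hXM : X ≤ M) (hMX : M ≤ normalizer (X : Set G)) :
    normalizer (X : Set G) = M := by
  rcases hM.le_iff.mp hMX with h | h
  · haveI : X.Normal := normalizer_eq_top_iff.mp h
    rcases Subgroup.Normal.eq_bot_or_eq_top (H := X) inferInstance with h' | h'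
    · exact absurd h' hX
    · exact absurd (top_le_iff.mp (h' ▸ hXM)) hM.1
  · exact h

theorem exists_prime_dvd_fitting {M N : Subgroup G} (hMN : Cfsg.leadsTo M N) :
    ∃ p : ℕ, p.Prime ∧ p ∣ Nat.card (Cfsg.fittingSubgroup M) := by
  obtain ⟨Q, hQ, hQF, -⟩ := hMN
  refine Nat.exists_prime_and_dvd fun h => hQ ?_
  rw [eq_bot_of_card_eq (Cfsg.fittingSubgroup M) h, Subgroup.map_bot, le_bot_iff] at hQF
  exact hQF

theorem fitting_dvd_of_leadsTo {M N : Subgroup G} (hMN : Cfsg.leadsTo M N)
    (hNM : Cfsg.leadsTo N M) {q : ℕ} (hq : q.Prime)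
    (hqN : q ∣ Nat.card (Cfsg.fittingSubgroup N)) : q ∣ Nat.card (Cfsg.fittingSubgroup M) := by
  by_contra h
  refine zCore_ne_bot hq hqN (le_bot_iff.mp ?_)
  rw [← coreIn_inf_eq_bot hMN hq h]
  exact le_inf inf_le_left (zCore_le_of_leadsTo hq hNM)

/-- The symmetric case. -/
theorem eq_or_pgroup [IsSimpleGroup G] (hna : ¬ IsMulCommutative G) {M N : Subgroup G}
    (hM : IsCoatom M) (hN : IsCoatom N) (hMN : Cfsg.leadsTo M N) (hNM : Cfsg.leadsTo N M) :
    M = N ∨ ∃ p : ℕ, p.Prime ∧ IsPGroup p (Cfsg.generalizedFittingSubgroup M) ∧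
      IsPGroup p (Cfsg.generalizedFittingSubgroup N) := by
  refine or_iff_not_imp_left.mpr fun hne => ?_
  have hlay := le_antisymm (layer_le_layer hMN (layer_le_of_leadsTo hNM))
    (layer_le_layer hNM (layer_le_of_leadsTo hMN))
  have hE : (Cfsg.layer M).map M.subtype = ⊥ := by
    by_contra h
    apply hne
    rw [← normalizer_eq_of_isCoatom hM _ h (map_subtype_le _) (le_normalizer_map _)]
    refine normalizer_eq_of_isCoatom hN _ h (hlay ▸ map_subtype_le _) ?_
    rw [← hlay]
    exact le_normalizer_map _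
  have hEM : Cfsg.layer M = ⊥ :=
    (Subgroup.map_eq_bot_iff_of_injective _ (subtype_injective M)).mp hE
  have hEN : Cfsg.layer N = ⊥ :=
    (Subgroup.map_eq_bot_iff_of_injective _ (subtype_injective N)).mp (hlay ▸ hE)
  by_cases htwo : ∃ q₁ q₂ : ℕ, q₁.Prime ∧ q₂.Prime ∧ q₁ ≠ q₂ ∧
      q₁ ∣ Nat.card (Cfsg.fittingSubgroup M) ∧ q₂ ∣ Nat.card (Cfsg.fittingSubgroup M)
  · -- both generalized Fitting subgroups lie in the intersection
    have key : ∀ X Y : Subgroup G, IsCoatom X → Cfsg.leadsTo X Y → Cfsg.leadsTo Y X →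
        Cfsg.layer Y = ⊥ → (∃ q₁ q₂ : ℕ, q₁.Prime ∧ q₂.Prime ∧ q₁ ≠ q₂ ∧
          q₁ ∣ Nat.card (Cfsg.fittingSubgroup X) ∧ q₂ ∣ Nat.card (Cfsg.fittingSubgroup X)) →
        (Cfsg.generalizedFittingSubgroup Y).map Y.subtype ≤ X := by
      intro X Y hX hXY hYX hEY ⟨q₁, q₂, h1, h2, h12, hd1, hd2⟩
      rw [Cfsg.generalizedFittingSubgroup, hEY, bot_sup_eq, map_le_iff_le_comap,
        CfsgLib.Fitting.fitting_eq_iSup_pCore]
      refine iSup_le fun s => map_le_iff_le_comap.mp ?_
      show coreIn (s : ℕ) Y ≤ X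
      have hs := Nat.prime_of_mem_primeFactors s.2
      by_cases h0 : coreIn (s : ℕ) Y = ⊥
      · rw [h0]; exact bot_le
      have hsY : (s : ℕ) ∣ Nat.card (Cfsg.fittingSubgroup Y) :=
        by_contra fun h => h0 (coreIn_eq_bot hs h)
      have hsX := fitting_dvd_of_leadsTo hXY hYX hs hsY
      obtain hs1 | hs1 := ne_or_eq (s : ℕ) q₁
      · exact coreIn_le_of_two_primes (normalizer_eq_of_isCoatom hX) hXY hs h1 hs1 hsX hd1
      · exact coreIn_le_of_two_primes (normalizer_eq_of_isCoatom hX) hXY hs h2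
          (hs1.trans_ne h12) hsX hd2
    obtain ⟨q₁, q₂, h1, h2, h12, hd1, hd2⟩ := htwo
    refine Cfsg.Agent.S1312.result hna M N hM hN hne ?_ ?_
    · exact key N M hN hNM hMN hEM ⟨q₁, q₂, h1, h2, h12, fitting_dvd_of_leadsTo hNM hMN h1 hd1,
        fitting_dvd_of_leadsTo hNM hMN h2 hd2⟩
    · exact key M N hM hMN hNM hEN ⟨q₁, q₂, h1, h2, h12, hd1, hd2⟩
  obtain ⟨p, hp, hpM⟩ := exists_prime_dvd_fitting hMN
  haveI := Fact.mk hp
  have hone : ∀ q : ℕ, q.Prime → q ∣ Nat.card (Cfsg.fittingSubgroup M) → q = p :=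
    fun q hq hd => by_contra fun h => htwo ⟨q, p, hq, hp, h, hd, hpM⟩
  have hpg : ∀ X : Subgroup G, Cfsg.layer X = ⊥ →
      (∀ q : ℕ, q.Prime → q ∣ Nat.card (Cfsg.fittingSubgroup X) → q = p) →
      IsPGroup p (Cfsg.generalizedFittingSubgroup X) := by
    intro X hX h
    rw [Cfsg.generalizedFittingSubgroup, hX, bot_sup_eq]
    refine IsPGroup.of_card (n := (Nat.card (Cfsg.fittingSubgroup X)).primeFactorsList.length) ?_
    exact Nat.eq_prime_pow_of_unique_prime_dvd Nat.card_pos.ne' fun {d} hd hdd => h d hd hdd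
  exact ⟨p, hp, hpg M hEM hone,
    hpg N hEN fun q hq hd => hone q hq (fitting_dvd_of_leadsTo hMN hNM hq hd)⟩

end Cfsg.Tech46.Bender
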