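import Cfsg.Agent.Lib.Tech46.Balance
import Cfsg.Agent.Lib.Components.PLayerConj
import Cfsg.Prelude.Def_KGroupFacts

/-!
`L_{p'}`-balance from the Schreier property.
-/

set_option autoImplicit false

namespace CfsgLib.Tech46

open Subgroup CfsgLib.Components
open scoped commutatorElement Pointwise

variable {Y : Type*} [Group Y] [Finite Y] {p : ℕ} [hp : Fact p.Prime]

omit [Finite Y] hp in
/-- A perfect solvable subgroup is trivial. -/
theorem eq_bot_of_perfect_of_isSolvable {A : Subgroup Y} (hA : ⁅A, A⁆ = A) (hs : Group.IsSolvable A) :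
    A = ⊥ := by
  by_contra h
  haveI : Nontrivial A := (A.nontrivial_iff_ne_bot).mpr h
  haveI : Group.IsPerfect A := Subgroup.isPerfect_iff.mpr hA
  exact Group.IsPerfect.not_isSolvable A hs

/-- A subgroup with solvable image-perfect combination: the image of a perfect subgroup in a solvable group is trivial. -/
theorem map_eq_bot_of_perfect {Z : Type*} [Group Z] [Group.IsSolvable Z] {A : Subgroup Y}
    (hA : ⁅A, A⁆ = A) (f : A →* Z) (a : A) : f a = 1 := by
  have h1 : f.range = ⊥ := by
    have hperf : ⁅f.range, f.range⁆ = f.range := by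
      rw [MonoidHom.range_eq_map, ← map_commutator]
      congr 1
      have := (Subgroup.isPerfect_iff.mpr hA).commutator_eq_top
      rwa [_root_.commutator_def] at this
    haveI : Group.IsSolvable f.range := inferInstance
    by_contra h
    haveI : Nontrivial f.range := (f.range.nontrivial_iff_ne_bot).mpr h
    haveI : Group.IsPerfect f.range := Subgroup.isPerfect_iff.mpr hperf
    exact Group.IsPerfect.not_isSolvable f.range inferInstance
  rw [MonoidHom.range_eq_bot_iff.mp h1]
  rfl

/-- Under the Schreier property, a perfect group normalizing the component `K` acts on it as `K` does. -/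
theorem perfect_le_component_sup_centralizer {K : Subgroup Y} (hK : Cfsg.IsComponent K)
    (hS : Group.IsSolvable (Cfsg.Out (↥K ⧸ center ↥K))) {H : Subgroup Y} (hperf : ⁅H, H⁆ = H)
    (hHK : H ≤ normalizer (K : Set Y)) : H ≤ K ⊔ centralizer (K : Set Y) := by
  intro h hh
  let ψ : H →* MulAut K := K.normalizerMonoidHom.comp (Subgroup.inclusion hHK)
  have hchar : ∀ u : MulAut K, (center K).map u.toMonoidHom = center K :=
    fun u => Subgroup.characteristic_iff_map_eq.mp inferInstance u
  let α : MulAut K →* MulAut (↥K ⧸ center ↥K) :=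
    { toFun := fun u => QuotientGroup.congr (center K) (center K) u (hchar u)
      map_one' := by
        ext x
        obtain ⟨x, rfl⟩ := QuotientGroup.mk'_surjective _ x
        rfl
      map_mul' := fun u v => by
        ext x
        obtain ⟨x, rfl⟩ := QuotientGroup.mk'_surjective _ x
        rfl }
  haveI := hS
  have h1 := map_eq_bot_of_perfect hperf ((QuotientGroup.mk' (Cfsg.Inn (↥K ⧸ center ↥K))).comp (α.comp ψ)) ⟨h, hh⟩
  obtain ⟨q, hq⟩ := (QuotientGroup.eq_one_iff _).mp h1
  obtain ⟨a, rfl⟩ := QuotientGroup.mk'_surjective _ q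
  have hc : (a : Y)⁻¹ * h ∈ centralizer (K : Set Y) := by
    refine mem_centralizer_of_component_mod_center hK fun k hk => ?_
    have h2 := DFunLike.congr_fun hq (QuotientGroup.mk' _ (⟨k, hk⟩ : K))
    simp only [MulAut.conj_apply, ← map_mul, ← map_inv] at h2
    change ((a * ⟨k, hk⟩ * a⁻¹ : K) : ↥K ⧸ center ↥K) = ((ψ ⟨h, hh⟩ ⟨k, hk⟩ : K) : ↥K ⧸ center ↥K) at h2
    have h4 : a⁻¹ * (ψ ⟨h, hh⟩ ⟨k, hk⟩) * a * (⟨k, hk⟩ : K)⁻¹ ∈ center K := by
      have h3 := QuotientGroup.eq.mp h2
      have h5 := (inferInstance : (center K).Normal).conj_mem _ h3 (⟨k, hk⟩ * a⁻¹)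
      convert h5 using 1
      group

    rw [← map_center_subtype]
    refine ⟨_, h4, ?_⟩
    show (a : Y)⁻¹ * (h * k * h⁻¹) * (a : Y) * k⁻¹ = _
    rw [commutatorElement_def]
    group
  have := mul_mem_sup a.2 hc
  simpa using this

/-- **`L_{p'}`-balance**, quotient form: with `O_{p'}(Y) = 1` and the Schreier property of the components, a
perfect subgroup like a `p`-component of `N(R)` lies in the layer. -/
theorem le_layer_of_schreier (hO : Cfsg.pPrimeCore p Y = ⊥)
    (hS : ∀ K : Subgroup Y, Cfsg.IsComponent K → Group.IsSolvable (Cfsg.Out (↥K ⧸ center ↥K)))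
    {R : Subgroup Y} (hR : IsPGroup p R) {H : Subgroup Y} (hHN : H ≤ normalizer (R : Set Y))
    (hperf : ⁅H, H⁆ = H) (hsub : (H.subgroupOf (normalizer (R : Set Y))).IsSubnormal)
    (hqs : Cfsg.IsQuasisimple (↥H ⧸ Cfsg.pPrimeCore p ↥H))
    (hlp : H.subgroupOf (normalizer (R : Set Y)) ≤ layerPreimage p ↥(normalizer (R : Set Y))) :
    H ≤ Cfsg.layer Y := by
  set N := normalizer (R : Set Y) with hNdef
  have hHP : H ≤ centralizer (Cfsg.pCore p Y : Set Y) := by
    refine le_trans ?_ (map_layerPreimage_normalizer_le hR)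
    rw [← map_subgroupOf_eq_of_le hHN]
    exact map_mono hlp
  have hHR : H ≤ centralizer (R : Set Y) := by
    intro h hh
    haveI : (R.subgroupOf N).Normal := normal_subgroupOf_of_le_normalizer le_rfl
    have h1 := layerPreimage_le_centralizer (p := p) (V := R.subgroupOf N) hR.comap_subtype
      (hlp (show (⟨h, hHN hh⟩ : N) ∈ H.subgroupOf N from hh))
    rw [mem_centralizer_iff] at h1 ⊢
    exact fun r hr => congrArg Subtype.val (h1 ⟨r, le_normalizer hr⟩ hr)
  set R₀ := R ⊔ Cfsg.pCore p Y
  set N₀ := normalizer (R₀ : Set Y) with hN₀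
  have hR₀ : IsPGroup p R₀ := hR.to_sup_of_normal_right CfsgLib.PCore.pCore_isPGroup
  have hHC : H ≤ centralizer (R₀ : Set Y) := by
    rw [le_centralizer_iff]
    exact sup_le (le_centralizer_iff.mp hHR) (le_centralizer_iff.mp hHP)
  have hHN₀ : H ≤ N₀ := hHC.trans (centralizer_le_normalizer _)
  have hCN : centralizer (R₀ : Set Y) ≤ N :=
    (centralizer_le (SetLike.coe_subset_coe.mpr le_sup_left)).trans (centralizer_le_normalizer _)
  have hsub₀ : (H.subgroupOf N₀).IsSubnormal := by
    set C := centralizer (R₀ : Set Y)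
    have hC1 : (H.subgroupOf C).IsSubnormal := hsub.comap (Subgroup.inclusion hCN)
    haveI hCn : (C.subgroupOf N₀).Normal :=
      (normal_subgroupOf_iff_le_normalizer (centralizer_le_normalizer _)).mpr (by
        intro n hn
        rw [mem_normalizer_iff]
        intro c
        simp only [C, mem_centralizer_iff, SetLike.mem_coe]
        constructor
        · intro hc r hr
          have h' := hc _ ((mem_normalizer_iff.mp (inv_mem hn) r).mp hr)
          calc r * (n * c * n⁻¹) = n * ((n⁻¹ * r * n⁻¹⁻¹) * c) * n⁻¹ := by group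
            _ = n * (c * (n⁻¹ * r * n⁻¹⁻¹)) * n⁻¹ := by rw [h']
            _ = n * c * n⁻¹ * r := by group
        · intro hc r hr
          have h' := hc _ ((mem_normalizer_iff.mp hn r).mp hr)
          calc r * c = n⁻¹ * ((n * r * n⁻¹) * (n * c * n⁻¹)) * n := by group
            _ = n⁻¹ * (n * c * n⁻¹ * (n * r * n⁻¹)) * n := by rw [h']
            _ = c * r := by group)
    let e : ↥(C.subgroupOf N₀) →* C := (subgroupOfEquivOfLe (centralizer_le_normalizer _)).toMonoidHom
    exact IsSubnormal.trans (fun x hx => hHC hx) (hC1.comap e) hCn.isSubnormal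
  -- the image of `H` modulo the core of `N₀` is a component
  set π₀ := QuotientGroup.mk' (Cfsg.pPrimeCore p N₀)
  set H₀ := H.subgroupOf N₀
  have hcomp : Cfsg.IsComponent (H₀.map π₀) := by
    refine ⟨hsub₀.map (QuotientGroup.mk'_surjective _), ?_⟩
    let ι : H →* H₀ := (subgroupOfEquivOfLe hHN₀).symm.toMonoidHom
    let g : H →* H₀.map π₀ := (π₀.subgroupMap H₀).comp ι
    have hg : Function.Surjective g :=
      (π₀.subgroupMap_surjective H₀).comp (subgroupOfEquivOfLe hHN₀).symm.surjective
    have hker : Cfsg.pPrimeCore p H ≤ g.ker := by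
      intro x hx
      rw [MonoidHom.mem_ker]
      apply Subtype.ext
      show π₀ (ι x : N₀) = 1
      refine (QuotientGroup.eq_one_iff _).mpr (CfsgLib.PCore.map_pPrimeCore_subtype_of_isSubnormal hsub₀ ?_)
      exact ⟨ι x, CfsgLib.PCore.map_pPrimeCore_le ι (subgroupOfEquivOfLe hHN₀).symm.surjective ⟨x, hx, rfl⟩, rfl⟩
    have hnt : Nontrivial (H₀.map π₀) := by
      rw [Subgroup.nontrivial_iff_ne_bot, Ne, Subgroup.map_eq_bot_iff, QuotientGroup.ker_mk']
      intro hle
      have hcop : (Nat.card H).Coprime p := by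
        rw [← Nat.card_congr (subgroupOfEquivOfLe hHN₀).toEquiv]
        exact CfsgLib.PCore.pPrimeCore_coprime.coprime_dvd_left (card_dvd_of_le hle)
      haveI := quasisimple_nontrivial hqs
      haveI : Subsingleton (↥H ⧸ Cfsg.pPrimeCore p ↥H) :=
        QuotientGroup.subsingleton_iff.mpr (CfsgLib.PCore.pPrimeCore_eq_top_of_coprime hcop)
      exact not_subsingleton (↥H ⧸ Cfsg.pPrimeCore p ↥H) inferInstance
    refine isQuasisimple_of_surjective hqs (QuotientGroup.lift _ g hker) ?_
    intro y
    obtain ⟨x, rfl⟩ := hg y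
    exact ⟨QuotientGroup.mk x, rfl⟩
  set E₀ := (Cfsg.layer Y).subgroupOf N₀
  haveI hLn : (Cfsg.layer Y).Normal := inferInstance
  haveI hE₀n : E₀.Normal := hLn.subgroupOf _
  -- `H` normalizes every component
  have hnorm : ∀ K : Subgroup Y, Cfsg.IsComponent K → H ≤ normalizer (K : Set Y) := by
    obtain h | h := le_or_commutator_eq_bot hcomp
      (hE₀n.map π₀ (QuotientGroup.mk'_surjective _)).isSubnormal
    · intro K hK x hx
      obtain ⟨e, he, hex⟩ := h ⟨⟨x, hHN₀ hx⟩, hx, rfl⟩
      have hd : e⁻¹ * ⟨x, hHN₀ hx⟩ ∈ Cfsg.pPrimeCore p N₀ := QuotientGroup.eq.mp hex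
      have hd' : (e : Y)⁻¹ * x ∈ localCore p R₀ := ⟨_, hd, rfl⟩
      have := mul_mem (layer_le_normalizer_component hK he) (localCore_le_normalizer_component hO hR₀ hK hd')
      simpa using this
    · set M := ⨅ K : {K : Subgroup Y // Cfsg.IsComponent K}, normalizer ((K : Subgroup Y) : Set Y) with hM
      have hHM : H ≤ M := by
        refine le_of_forall_coprime_mem_of_perfect (p := p) hperf ?_ ?_
        · intro y _
          have key : ∀ y : Y, ∀ m ∈ M, y * m * y⁻¹ ∈ M := by
            intro y m hm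
            rw [hM, mem_iInf] at hm ⊢
            rintro ⟨K, hK⟩
            have h1 := mem_normalizer_iff.mp (hm ⟨K.map (MulAut.conj y⁻¹).toMonoidHom, isComponent_conj _ hK⟩)
            rw [mem_normalizer_iff]
            intro k
            have h2 := h1 (y⁻¹ * k * y)
            simp only [mem_map_equiv, MulAut.conj_symm_apply, inv_inv] at h2
            rw [show y * (y⁻¹ * k * y) * y⁻¹ = k by group,
              show y * (m * (y⁻¹ * k * y) * m⁻¹) * y⁻¹ = y * m * y⁻¹ * k * (y * m * y⁻¹)⁻¹ by group] at h2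
            exact h2
          rw [mem_normalizer_iff]
          exact fun m => ⟨key y m, fun hm => by simpa [mul_assoc] using key y⁻¹ _ hm⟩
        · intro x hx hord
          rw [hM, mem_iInf]
          rintro ⟨K, hK⟩
          refine mem_normalizer_of_pow_card hR₀ hord ?_
          refine pow_card_mem_normalizer_component hO hR₀ le_sup_right (hHC hx)
            (localCore_coprime (p := p) R₀) (fun t ht htN => ?_) hK
          have h1 : π₀ ⁅(⟨x, hHN₀ hx⟩ : N₀), ⟨t, htN⟩⁆ = 1 := by
            rw [map_commutatorElement, ← mem_bot, ← h]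
            exact commutator_mem_commutator ⟨_, hx, rfl⟩ ⟨⟨t, htN⟩, ht, rfl⟩
          exact ⟨_, (QuotientGroup.eq_one_iff _).mp h1, rfl⟩
      exact fun K hK => hHM.trans (iInf_le (fun K : {K : Subgroup Y // Cfsg.IsComponent K} =>
        normalizer ((K : Subgroup Y) : Set Y)) ⟨K, hK⟩)
  -- `H` acts on the layer by inner automorphisms
  classical
  have key : ∀ s : Finset (Subgroup Y), (∀ K ∈ s, Cfsg.IsComponent K) →
      ∀ x ∈ H, ∃ e ∈ Cfsg.layer Y, ∀ K ∈ s, e⁻¹ * x ∈ centralizer (K : Set Y) := by
    intro s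
    induction s using Finset.induction_on with
    | empty => exact fun _ x _ => ⟨1, one_mem _, by simp⟩
    | @insert K s hKs ih =>
      intro hs x hx
      obtain ⟨e, he, hec⟩ := ih (fun L hL => hs L (Finset.mem_insert_of_mem hL)) x hx
      have hK := hs K (Finset.mem_insert_self K s)
      have hEKC : Cfsg.layer Y ≤ K ⊔ centralizer (K : Set Y) := by
        refine sSup_le fun L hL => ?_
        obtain rfl | hne := eq_or_ne L K
        · exact le_sup_left
        · exact (le_centralizer_of_commutator_eq_bot (commutator_components_eq_bot hL hK hne)).trans le_sup_right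
      have hc : e⁻¹ * x ∈ K ⊔ centralizer (K : Set Y) := mul_mem (inv_mem (hEKC he))
        (perfect_le_component_sup_centralizer hK (hS K hK) hperf (hnorm K hK) hx)
      have hc' : e⁻¹ * x ∈ (K : Set Y) * (centralizer (K : Set Y) : Set Y) := by
        rw [← coe_mul_of_right_le_normalizer_left K _ (centralizer_le_normalizer _)]
        exact hc
      obtain ⟨a, ha, z, hz, haz⟩ := Set.mem_mul.mp hc'
      refine ⟨e * a, mul_mem he (component_le_layer hK ha), fun L hL => ?_⟩
      have e1 : (e * a)⁻¹ * x = a⁻¹ * (e⁻¹ * x) := by group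
      rcases Finset.mem_insert.mp hL with rfl | hL'
      · rw [e1, ← haz, inv_mul_cancel_left]
        exact hz
      · rw [e1]
        refine mul_mem (inv_mem ?_) (hec L hL')
        exact le_centralizer_of_commutator_eq_bot (commutator_components_eq_bot hK (hs L hL)
          (fun h => hKs (h ▸ hL'))) ha
  have hle : H ≤ Cfsg.layer Y ⊔ Cfsg.pCore p Y := by
    intro x hx
    haveI : Fintype (Subgroup Y) := Fintype.ofFinite _
    obtain ⟨e, he, hec⟩ := key (Finset.univ.filter fun K => Cfsg.IsComponent K) (by simp) x hx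
    have hc : e⁻¹ * x ∈ Cfsg.pCore p Y := by
      refine mem_pCore_of_centralizes hO (mem_centralizer_layer fun K hK => hec K (by simp [hK])) ?_
      refine mul_mem (inv_mem ?_) (hHP hx)
      haveI : Group.IsSolvable (Cfsg.pCore p Y) :=
        haveI := (CfsgLib.PCore.pCore_isPGroup (p := p) (G := Y)).isNilpotent
        inferInstance
      exact le_centralizer_of_commutator_eq_bot (commutator_layer_solvable _) he
    have := mul_mem_sup he hc
    simpa using this
  set q := QuotientGroup.mk' (Cfsg.layer Y)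
  have hH1 : H.map q = ⊥ := by
    refine eq_bot_of_perfect_of_isSolvable (by rw [← map_commutator, hperf]) ?_
    have hle2 : H.map q ≤ (Cfsg.pCore p Y).map q := by
      refine (map_mono hle).trans ?_
      rw [Subgroup.map_sup, show (Cfsg.layer Y).map q = ⊥ by
        rw [Subgroup.map_eq_bot_iff, QuotientGroup.ker_mk'], bot_sup_eq]
    haveI := ((CfsgLib.PCore.pCore_isPGroup (p := p) (G := Y)).map q).isNilpotent
    exact Group.isSolvable_of_isSolvable_injective (inclusion_injective hle2)
  rwa [Subgroup.map_eq_bot_iff, QuotientGroup.ker_mk'] at hH1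

/-- **`L_{p'}`-balance** from the Schreier property. -/
theorem map_pLayer_normalizer_le {X : Type*} [Group X] [Finite X]
    (hS : ∀ K : Subgroup (X ⧸ Cfsg.pPrimeCore p X), Cfsg.IsComponent K →
      Group.IsSolvable (Cfsg.Out (↥K ⧸ center ↥K)))
    {R : Subgroup X} (hR : IsPGroup p R) :
    (Cfsg.pLayer p ↥(normalizer (R : Set X))).map (normalizer (R : Set X)).subtype ≤ Cfsg.pLayer p X := by
  set π := QuotientGroup.mk' (Cfsg.pPrimeCore p X) with hπ
  set N := normalizer (R : Set X) with hNdef
  rw [map_le_iff_le_comap]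
  refine sSup_le fun K hK => map_le_iff_le_comap.mp ?_
  set Nb := normalizer ((R.map π : Subgroup _) : Set (X ⧸ Cfsg.pPrimeCore p X))
  have hN : N.map π = Nb := map_normalizer_quotient CfsgLib.PCore.pPrimeCore_coprime hR
  let σ : N →* Nb := (π.comp N.subtype).codRestrict _ fun z => hN.le ⟨z, z.2, rfl⟩
  have hσ : Function.Surjective σ := by
    intro w
    obtain ⟨z, hz, hzw⟩ := hN.ge w.2
    exact ⟨⟨z, hz⟩, Subtype.ext hzw⟩
  set H := (K.map N.subtype).map π with hHdef
  have hHN : H ≤ Nb := hN ▸ map_mono (map_subtype_le K)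
  have hHs : H.subgroupOf Nb = K.map σ := by
    ext w
    constructor
    · rintro ⟨_, ⟨z, hz, rfl⟩, hzw⟩
      exact ⟨z, hz, Subtype.ext hzw⟩
    · rintro ⟨z, hz, rfl⟩
      exact ⟨z, ⟨z, hz, rfl⟩, rfl⟩
  have hperf : ⁅H, H⁆ = H := by
    rw [hHdef, ← map_commutator, ← map_commutator, pComponent_commutator_self hK]
  let g : K →* H := ((π.subgroupMap (K.map N.subtype)).comp (N.subtype.subgroupMap K))
  have hg : Function.Surjective g :=
    (π.subgroupMap_surjective _).comp (N.subtype.subgroupMap_surjective K)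
  have hqs : Cfsg.IsQuasisimple (↥H ⧸ Cfsg.pPrimeCore p ↥H) := by
    haveI : Nontrivial (↥H ⧸ Cfsg.pPrimeCore p ↥H) := by
      rw [QuotientGroup.nontrivial_iff]
      intro htop
      have hcop : (Nat.card H).Coprime p := by
        have := CfsgLib.PCore.pPrimeCore_coprime (p := p) (G := H)
        rwa [htop, card_top] at this
      have hk := pComponent_eq_top_of_coprime_index hK g.ker (by
        rw [Subgroup.index_ker, MonoidHom.range_eq_top.mpr hg, card_top]
        exact hcop)
      have hle : K.map N.subtype ≤ Cfsg.pPrimeCore p X := by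
        rintro _ ⟨z, hz, rfl⟩
        have h1 : g ⟨z, hz⟩ = 1 := MonoidHom.mem_ker.mp (hk ▸ mem_top _)
        exact (QuotientGroup.eq_one_iff _).mp (congrArg Subtype.val h1)
      have h2 := (pComponent_dvd_card hK).trans
        ((dvd_of_eq (card_map_of_injective N.subtype_injective).symm).trans (card_dvd_of_le hle))
      exact CfsgLib.PCore.not_dvd_card_pPrimeCore h2
    let g' : (↥K ⧸ Cfsg.pPrimeCore p ↥K) →* (↥H ⧸ Cfsg.pPrimeCore p ↥H) :=
      QuotientGroup.map _ _ g (map_le_iff_le_comap.mp (CfsgLib.PCore.map_pPrimeCore_le g hg))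
    refine isQuasisimple_of_surjective (pComponent_quotient_quasisimple hK) g' ?_
    intro y
    obtain ⟨y, rfl⟩ := QuotientGroup.mk'_surjective _ y
    obtain ⟨x, rfl⟩ := hg y
    exact ⟨QuotientGroup.mk x, rfl⟩
  have hlp : H.subgroupOf Nb ≤ layerPreimage p Nb := by
    rw [hHs]
    refine le_trans (map_mono ?_) (map_layerPreimage_le hσ)
    exact map_le_iff_le_comap.mp (component_le_layer hK.2.1)
  have hle := le_layer_of_schreier CfsgLib.PCore.pPrimeCore_quotient_pPrimeCore hS (hR.map π) hHN hperf
    (hHs ▸ hK.1.map hσ) hqs hlp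
  have h1 : K.map N.subtype ≤ Cfsg.pLayer p X ⊔ Cfsg.pPrimeCore p X := by
    rw [← QuotientGroup.ker_mk' (Cfsg.pPrimeCore p X), ← comap_map_eq, ← map_le_iff_le_comap, ← hπ, map_pLayer]
    exact hle
  haveI hLn : (Cfsg.pLayer p X).Normal := CfsgLib.Components39.pLayer_normal_inst
  refine le_trans ?_ (pElemClosure_le_of_coprime (p := p) hLn.isSubnormal
    ((relIndex_dvd_card_of_le_sup le_sup_left le_rfl |> fun h =>
      CfsgLib.PCore.pPrimeCore_coprime.coprime_dvd_left h) :
        ((Cfsg.pLayer p X).relIndex (Cfsg.pLayer p X ⊔ Cfsg.pPrimeCore p X)).Coprime p))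
  refine le_trans ?_ (pElemClosure_mono h1)
  rw [← map_pElemClosure]
  exact map_mono (pComponent_le_pElemClosure hK)

end CfsgLib.Tech46
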