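import Cfsg.Agent.Lib.Components.Local

/-!
Elementary balance: in a finite group `Y` with `O_{p'}(Y) = 1`, the p'-core and the p-layer of a
p-local subgroup normalize every component, centralize `O_p(Y)`, and (under the Schreier property)
the p-layer lies in the layer.
-/

set_option autoImplicit false

namespace CfsgLib.Tech46

open Subgroup CfsgLib.Components
open scoped commutatorElement Pointwise

variable {Y : Type*} [Group Y] [Finite Y] {p : ℕ} [hp : Fact p.Prime]

/-- A nilpotent subnormal subgroup lies in `O_p` when `O_{p'} = 1`. -/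
theorem le_pCore_of_isNilpotent_isSubnormal (hO : Cfsg.pPrimeCore p Y = ⊥) {A : Subgroup Y}
    (hA : A.IsSubnormal) (hn : Group.IsNilpotent A) : A ≤ Cfsg.pCore p Y := by
  refine (CfsgLib.Fitting.subnormal_nilpotent_le_fitting hA hn).trans ?_
  rw [CfsgLib.Fitting.fitting_eq_iSup_pCore]
  refine iSup_le fun q => ?_
  obtain hq | hq := eq_or_ne (q : ℕ) p
  · rw [hq]
  refine le_trans ?_ bot_le
  rw [← hO]
  refine CfsgLib.PCore.le_pPrimeCore inferInstance ?_
  haveI : Fact (q : ℕ).Prime := ⟨Nat.prime_of_mem_primeFactors q.2⟩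
  obtain ⟨n, hn⟩ := IsPGroup.iff_card.mp (CfsgLib.PCore.pCore_isPGroup (p := (q : ℕ)) (G := Y))
  rw [hn]
  exact ((Nat.coprime_primes (Nat.prime_of_mem_primeFactors q.2) hp.out).mpr hq).pow_left n

theorem fitting_le_pCore (hO : Cfsg.pPrimeCore p Y = ⊥) :
    Cfsg.fittingSubgroup Y ≤ Cfsg.pCore p Y :=
  le_pCore_of_isNilpotent_isSubnormal hO
    (CfsgLib.Fitting.fitting_normal (G := Y)).isSubnormal CfsgLib.Fitting.fitting_isNilpotent

/-- An element centralizing the layer and `O_p` lies in `O_p` when `O_{p'} = 1`. -/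
theorem mem_pCore_of_centralizes (hO : Cfsg.pPrimeCore p Y = ⊥) {x : Y}
    (hE : x ∈ centralizer (Cfsg.layer Y : Set Y))
    (hP : x ∈ centralizer (Cfsg.pCore p Y : Set Y)) : x ∈ Cfsg.pCore p Y := by
  refine fitting_le_pCore hO (centralizer_generalizedFitting_le_fitting ?_)
  have h : Cfsg.generalizedFittingSubgroup Y ≤ centralizer ({x} : Set Y) := by
    refine sup_le (fun y hy => ?_) ((fitting_le_pCore hO).trans fun y hy => ?_)
    · exact mem_centralizer_singleton_iff.mpr (mem_centralizer_iff.mp hE y hy)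
    · exact mem_centralizer_singleton_iff.mpr (mem_centralizer_iff.mp hP y hy)
  exact mem_centralizer_iff.mpr fun y hy => mem_centralizer_singleton_iff.mp (h hy)

/-- An element centralizing every component centralizes the layer. -/
theorem mem_centralizer_layer {x : Y}
    (h : ∀ K : Subgroup Y, Cfsg.IsComponent K → x ∈ centralizer (K : Set Y)) :
    x ∈ centralizer (Cfsg.layer Y : Set Y) := by
  have hle : Cfsg.layer Y ≤ centralizer ({x} : Set Y) := sSup_le fun K hK y hy =>
    mem_centralizer_singleton_iff.mpr (mem_centralizer_iff.mp (h K hK) y hy)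
  exact mem_centralizer_iff.mpr fun y hy => mem_centralizer_singleton_iff.mp (hle hy)

/-- An element centralizing `K` modulo its centre centralizes the perfect group `K`. -/
theorem mem_centralizer_of_component_mod_center {K : Subgroup Y} (hK : Cfsg.IsComponent K) {x : Y}
    (hx : ∀ k ∈ K, ⁅x, k⁆ ∈ K ⊓ centralizer (K : Set Y)) : x ∈ centralizer (K : Set Y) := by
  have hle : K ≤ centralizer ({x} : Set Y) := by
    refine (component_commutator_self hK).ge.trans ?_
    rw [commutator_le]
    intro a ha b hb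
    rw [mem_centralizer_singleton_iff]
    have conjf : ∀ c ∈ K, x * c * x⁻¹ = ⁅x, c⁆ * c := fun c _ => by
      rw [commutatorElement_def]; group
    have hza := mem_centralizer_iff.mp (hx a ha).2
    have hzb := mem_centralizer_iff.mp (hx b hb).2
    have hKa : ⁅x, a⁆ ∈ K := (hx a ha).1
    have h1 : x * ⁅a, b⁆ * x⁻¹ = ⁅a, b⁆ := by
      calc x * ⁅a, b⁆ * x⁻¹ = ⁅x * a * x⁻¹, x * b * x⁻¹⁆ := conjugate_commutatorElement a b x
        _ = ⁅⁅x, a⁆ * a, ⁅x, b⁆ * b⁆ := by rw [conjf a ha, conjf b hb]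
        _ = ⁅a, b⁆ := by
          set z := ⁅x, a⁆
          set w := ⁅x, b⁆
          have hwz : z * w = w * z := hzb z hKa
          simp only [commutatorElement_def, mul_inv_rev]
          calc z * a * (w * b) * (a⁻¹ * z⁻¹) * (b⁻¹ * w⁻¹)
              = z * (a * w) * (b * a⁻¹) * (z⁻¹ * b⁻¹) * w⁻¹ := by group
            _ = z * (w * a) * (b * a⁻¹) * (b⁻¹ * z⁻¹) * w⁻¹ := by
                rw [hzb a ha, ← (hza b⁻¹ (inv_mem hb)) |> fun h => (show z⁻¹ * b⁻¹ = b⁻¹ * z⁻¹ from
                  eq_mul_inv_of_mul_eq (by rw [mul_assoc, h, inv_mul_cancel_left]))]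
            _ = z * w * (a * b * a⁻¹ * b⁻¹) * (z⁻¹ * w⁻¹) := by group
            _ = z * w * ((a * b * a⁻¹ * b⁻¹) * z⁻¹) * w⁻¹ := by group
            _ = z * w * (z⁻¹ * (a * b * a⁻¹ * b⁻¹)) * w⁻¹ := by
                have := hza _ (mul_mem (mul_mem (mul_mem ha hb) (inv_mem ha)) (inv_mem hb))
                rw [show (a * b * a⁻¹ * b⁻¹) * z⁻¹ = z⁻¹ * (a * b * a⁻¹ * b⁻¹) from
                  eq_inv_mul_of_mul_eq (by rw [← mul_assoc, ← this, mul_inv_cancel_right])]
            _ = w * ((a * b * a⁻¹ * b⁻¹) * w⁻¹) := by rw [hwz]; group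
            _ = a * b * a⁻¹ * b⁻¹ := by
                have := hzb _ (mul_mem (mul_mem (mul_mem ha hb) (inv_mem ha)) (inv_mem hb))
                rw [← mul_assoc, ← this, mul_inv_cancel_right]
    calc ⁅a, b⁆ * x = x * ⁅a, b⁆ * x⁻¹ * x := by rw [h1]
      _ = x * ⁅a, b⁆ := by group
  exact mem_centralizer_iff.mpr fun y hy => mem_centralizer_singleton_iff.mp (hle hy)

/-- For a `p`-subgroup `R ⊇ O_p(Y)`: the join of an `R`-orbit of components contains a `p`-element that
normalizes `R` and is not central in that join. -/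
theorem exists_orbit_witness (hO : Cfsg.pPrimeCore p Y = ⊥) {R : Subgroup Y} (hR : IsPGroup p R)
    (hPR : Cfsg.pCore p Y ≤ R) {K : Subgroup Y} (hK : Cfsg.IsComponent K) :
    ∃ t ∈ (⨆ r : R, K.map (MulAut.conj (r : Y)).toMonoidHom), t ∈ normalizer (R : Set Y) ∧
      (∃ n, t ^ p ^ n = 1) ∧
      t ∉ centralizer ((⨆ r : R, K.map (MulAut.conj (r : Y)).toMonoidHom : Subgroup Y) : Set Y) := by
  classical
  set U := ⨆ r : R, K.map (MulAut.conj (r : Y)).toMonoidHom with hU
  have hcomp : ∀ r : Y, Cfsg.IsComponent (K.map (MulAut.conj r).toMonoidHom) := fun r =>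
    isComponent_conj r hK
  have hUE : U ≤ Cfsg.layer Y := iSup_le fun r => component_le_layer (hcomp _)
  have hKU : K ≤ U := le_trans (le_of_eq (by ext; simp)) (le_iSup
    (fun r : R => K.map (MulAut.conj (r : Y)).toMonoidHom) 1)
  -- `R` normalizes `U`
  have hRU : R ≤ normalizer (U : Set Y) := by
    have key : ∀ s ∈ R, ∀ u ∈ U, s * u * s⁻¹ ∈ U := by
      intro s hs u hu
      have hle : U ≤ U.comap (MulAut.conj s).toMonoidHom := by
        refine iSup_le fun r => ?_
        rintro _ ⟨k, hk, rfl⟩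
        refine le_iSup (fun r : R => K.map (MulAut.conj (r : Y)).toMonoidHom) (⟨s, hs⟩ * r) ⟨k, hk, ?_⟩
        simp [mul_assoc]
      exact hle hu
    intro s hs
    rw [mem_normalizer_iff]
    exact fun u => ⟨key s hs u, fun h => by simpa [mul_assoc] using key s⁻¹ (inv_mem hs) _ h⟩
  -- the centre of `U` is contained in `O_p`
  have hZU : ∀ x ∈ U, x ∈ centralizer (U : Set Y) → x ∈ Cfsg.pCore p Y := by
    intro x hxU hxC
    have hOs : Group.IsSolvable (Cfsg.pCore p Y) :=
      haveI := (CfsgLib.PCore.pCore_isPGroup (p := p) (G := Y)).isNilpotent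
      inferInstance
    refine mem_pCore_of_centralizes hO (mem_centralizer_layer fun L hL => ?_) ?_
    · by_cases hLU : L ≤ U
      · exact centralizer_le (SetLike.coe_subset_coe.mpr hLU) hxC
      · have hne : ∀ r : R, K.map (MulAut.conj (r : Y)).toMonoidHom ≠ L := fun r h =>
          hLU (h ▸ le_iSup (fun r : R => K.map (MulAut.conj (r : Y)).toMonoidHom) r)
        have hUC : U ≤ centralizer (L : Set Y) := iSup_le fun r =>
          le_centralizer_of_commutator_eq_bot (commutator_components_eq_bot (hcomp r) hL (hne r))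
        exact hUC hxU
    · exact (le_centralizer_of_commutator_eq_bot (le_bot_iff.mp
        ((commutator_mono hUE le_rfl).trans (commutator_layer_solvable _).le))) hxU
  -- an `R`-invariant Sylow `p`-subgroup of `U`
  obtain ⟨T, hRT⟩ : ∃ T : Sylow p U, R ≤ normalizer ((T : Subgroup U).map U.subtype : Set Y) := by
    let f : R →* MulAut U := U.normalizerMonoidHom.comp (Subgroup.inclusion hRU)
    letI : MulDistribMulAction R U := MulDistribMulAction.compHom U f
    obtain ⟨T, hT⟩ := hR.nonempty_fixed_point_of_prime_not_dvd_card (Sylow p U) (not_dvd_card_sylow p U)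
    refine ⟨T, fun a ha => ?_⟩
    have key : ∀ b : R, ∀ y ∈ (T : Subgroup U).map U.subtype, (b : Y) * y * (b : Y)⁻¹ ∈ (T : Subgroup U).map U.subtype := by
      rintro b _ ⟨z, hz, rfl⟩
      refine ⟨f b z, ?_, rfl⟩
      rw [← (hT b : (b • T : Sylow p U) = T)]
      exact Subgroup.smul_mem_pointwise_smul z b (T : Subgroup U) hz
    rw [mem_normalizer_iff]
    exact fun y => ⟨key ⟨a, ha⟩ y, fun h => by simpa [mul_assoc] using key ⟨a, ha⟩⁻¹ _ h⟩
  set T₀ := (T : Subgroup U).map U.subtype with hT₀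
  have hT₀U : T₀ ≤ U := map_subtype_le _
  have hpt : ∀ t ∈ T₀, ∃ n, t ^ p ^ n = 1 := by
    rintro _ ⟨z, hz, rfl⟩
    obtain ⟨n, hn⟩ := T.2 ⟨z, hz⟩
    exact ⟨n, by simpa using congrArg (fun w : (T : Subgroup U) => ((w : U) : Y)) hn⟩
  have hTc : ¬ T₀ ≤ centralizer (U : Set Y) := by
    intro h
    have hall : ∀ u ∈ U, (∃ n, u ^ p ^ n = 1) → u ∈ centralizer (U : Set Y) := by
      rintro u hu ⟨n, hn⟩
      have hpu : IsPGroup p (zpowers (⟨u, hu⟩ : U)) := by
        intro w
        obtain ⟨i, hi⟩ := mem_zpowers_iff.mp w.2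
        refine ⟨n, Subtype.ext ?_⟩
        have h1 : (⟨u, hu⟩ : U) ^ p ^ n = 1 := Subtype.ext (by simpa using hn)
        rw [coe_pow, coe_one, ← hi, ← zpow_natCast, ← zpow_mul, mul_comm, zpow_mul, zpow_natCast, h1, one_zpow]
      obtain ⟨S, hS⟩ := hpu.exists_le_sylow
      obtain ⟨g, hg⟩ := MulAction.exists_smul_eq U S T
      have h1 : g * ⟨u, hu⟩ * g⁻¹ ∈ ((g • S : Sylow p U) : Subgroup U) := by
        rw [Sylow.coe_subgroup_smul]
        exact Subgroup.smul_mem_pointwise_smul _ (MulAut.conj g) _ (hS (mem_zpowers _))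
      rw [hg] at h1
      have h2 : (g : Y) * u * (g : Y)⁻¹ ∈ centralizer (U : Set Y) := h ⟨_, h1, rfl⟩
      have h3 : u = (g : Y)⁻¹ * ((g : Y) * u * (g : Y)⁻¹) * (g : Y) := by group
      rw [h3, mul_assoc, ← mem_centralizer_iff.mp h2 (g : Y) g.2, inv_mul_cancel_left]
      exact h2
    have hKC : K ≤ centralizer (U : Set Y) := by
      rw [← pElemClosure_component hK.2 (dvd_card_component hO hK), pElemClosure, closure_le]
      exact fun u hu => hall u (hKU hu.1) hu.2
    apply component_commutator_ne_bot hK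
    rw [commutator_eq_bot_iff_le_centralizer]
    exact hKC.trans (centralizer_le (SetLike.coe_subset_coe.mpr hKU))
  obtain ⟨t₁, ht₁, ht₁c⟩ := SetLike.not_le_iff_exists.mp hTc
  by_cases hcase : ∃ t ∈ T₀ ⊓ R, t ∉ centralizer (U : Set Y)
  · obtain ⟨t, ht, htc⟩ := hcase
    exact ⟨t, hT₀U ht.1, le_normalizer ht.2, hpt t ht.1, htc⟩
  push_neg at hcase
  have hP : IsPGroup p ↥(T₀ ⊔ R) := (T.2.map U.subtype).to_sup_of_normal_left' hR hRT
  haveI := hP.isNilpotent
  have hlt : R.subgroupOf (T₀ ⊔ R) < ⊤ := by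
    rw [lt_top_iff_ne_top, Ne, subgroupOf_eq_top]
    exact fun h => ht₁c (hcase t₁ ⟨ht₁, h (mem_sup_left ht₁)⟩)
  obtain ⟨n, hn, hnR⟩ := SetLike.exists_of_lt
    (Group.normalizerCondition_of_isNilpotent (R.subgroupOf (T₀ ⊔ R)) hlt)
  have hnN : (n : Y) ∈ normalizer (R : Set Y) := by
    rw [mem_normalizer_iff] at hn ⊢
    intro r
    constructor
    · intro hr
      simpa [mem_subgroupOf] using (hn ⟨r, mem_sup_right hr⟩).mp (by simpa [mem_subgroupOf] using hr)
    · intro hr
      have h' : r ∈ T₀ ⊔ R := by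
        have := mul_mem (mul_mem (inv_mem n.2) (mem_sup_right hr : _ ∈ T₀ ⊔ R)) n.2
        simpa [mul_assoc] using this
      simpa [mem_subgroupOf] using (hn ⟨r, h'⟩).mpr (by simpa [mem_subgroupOf] using hr)
  have hn' : (n : Y) ∈ (T₀ : Set Y) * (R : Set Y) := by
    rw [← coe_mul_of_right_le_normalizer_left T₀ R hRT]
    exact n.2
  obtain ⟨t, ht, r, hr, htr⟩ := Set.mem_mul.mp hn'
  have htN : t ∈ normalizer (R : Set Y) := by
    have : t = (n : Y) * r⁻¹ := by rw [← htr, mul_inv_cancel_right]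
    rw [this]
    exact mul_mem hnN (le_normalizer (inv_mem hr))
  refine ⟨t, hT₀U ht, htN, hpt t ht, fun htc => hnR ?_⟩
  rw [mem_subgroupOf, ← htr]
  exact mul_mem (hPR (hZU t (hT₀U ht) htc)) hr

omit [Finite Y] hp in
theorem map_conj_mul (K : Subgroup Y) (a b : Y) :
    (K.map (MulAut.conj b).toMonoidHom).map (MulAut.conj a).toMonoidHom =
      K.map (MulAut.conj (a * b)).toMonoidHom := by
  rw [map_map]
  congr 1
  ext x
  simp [mul_assoc]

omit [Finite Y] hp in
theorem mem_normalizer_of_map_conj {K : Subgroup Y} {g : Y}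
    (h : K.map (MulAut.conj g).toMonoidHom = K) : g ∈ normalizer (K : Set Y) :=
  mem_normalizer_iff_map_conj_eq.mpr h

/-- If `g` centralizes the `p`-group `R ⊇ O_p(Y)` and its commutators with `E(Y) ∩ N(R)` lie in a
`p'`-subgroup, then the `|R|`-th power of `g` normalizes every component of `Y`. -/
theorem pow_card_mem_normalizer_component (hO : Cfsg.pPrimeCore p Y = ⊥) {R : Subgroup Y}
    (hR : IsPGroup p R) (hPR : Cfsg.pCore p Y ≤ R) {g : Y} (hg : g ∈ centralizer (R : Set Y))
    {D : Subgroup Y} (hD : (Nat.card D).Coprime p)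
    (hgD : ∀ t ∈ Cfsg.layer Y, t ∈ normalizer (R : Set Y) → ⁅g, t⁆ ∈ D)
    {K : Subgroup Y} (hK : Cfsg.IsComponent K) : g ^ Nat.card R ∈ normalizer (K : Set Y) := by
  have hcR : ∀ r ∈ R, g * r = r * g := fun r hr => (mem_centralizer_iff.mp hg r hr).symm
  by_cases h : ∃ r : R, K.map (MulAut.conj g).toMonoidHom = K.map (MulAut.conj (r : Y)).toMonoidHom
  · obtain ⟨r, hr⟩ := h
    have hj : ∀ j : ℕ, K.map (MulAut.conj (g ^ j)).toMonoidHom =
        K.map (MulAut.conj ((r : Y) ^ j)).toMonoidHom := by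
      intro j
      induction j with
      | zero => simp
      | succ j ih =>
        rw [pow_succ', ← map_conj_mul, ih, map_conj_mul, hcR _ (pow_mem r.2 j), ← map_conj_mul, hr,
          map_conj_mul, ← pow_succ]
    have h1 : ((r : Y) ^ Nat.card R) = 1 := by
      rw [← coe_pow, pow_card_eq_one', coe_one]
    refine mem_normalizer_of_map_conj ?_
    rw [hj, h1]
    ext; simp
  exfalso
  push_neg at h
  obtain ⟨t, ht, htN, ⟨n, htn⟩, htc⟩ := exists_orbit_witness hO hR hPR hK
  set U := ⨆ r : R, K.map (MulAut.conj (r : Y)).toMonoidHom with hU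
  have hcomm : U.map (MulAut.conj g).toMonoidHom ≤ centralizer (U : Set Y) := by
    rw [map_le_iff_le_comap]
    refine iSup_le fun s => map_le_iff_le_comap.mp ?_
    rw [map_conj_mul, le_centralizer_iff]
    refine iSup_le fun r => le_centralizer_of_commutator_eq_bot ?_
    refine commutator_components_eq_bot (isComponent_conj _ hK) (isComponent_conj _ hK) ?_
    intro he
    apply h (⟨s, s.2⟩⁻¹ * r)
    have := congrArg (Subgroup.map (MulAut.conj (s : Y)⁻¹).toMonoidHom) he.symm
    rw [map_conj_mul, map_conj_mul, hcR _ s.2, inv_mul_cancel_left] at this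
    exact this
  have ht' : g * t * g⁻¹ ∈ centralizer (U : Set Y) := hcomm ⟨t, ht, rfl⟩
  have hUE : U ≤ Cfsg.layer Y := iSup_le fun r => component_le_layer (isComponent_conj _ hK)
  have hdD : ⁅g, t⁆ ∈ D := hgD t (hUE ht) htN
  have hct : Commute (g * t * g⁻¹) t⁻¹ :=
    (show Commute (g * t * g⁻¹) t from (mem_centralizer_iff.mp ht' t ht).symm).inv_right
  have hp1 : ⁅g, t⁆ ^ p ^ n = 1 := by
    rw [commutatorElement_def, hct.mul_pow, conj_pow, inv_pow, htn]
    simp
  have h1 : ⁅g, t⁆ = 1 := by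
    rw [← orderOf_eq_one_iff]
    exact Nat.eq_one_of_dvd_coprimes (hD.pow_right n) (orderOf_dvd_natCard D hdD)
      (orderOf_dvd_of_pow_eq_one hp1)
  rw [commutatorElement_def, mul_inv_eq_one] at h1
  exact htc (h1 ▸ ht')

/-- A `p'`-element whose `|R|`-th power normalizes a component normalizes it. -/
theorem mem_normalizer_of_pow_card {R : Subgroup Y} (hR : IsPGroup p R) {g : Y}
    (hg : (orderOf g).Coprime p) {K : Subgroup Y} (h : g ^ Nat.card R ∈ normalizer (K : Set Y)) :
    g ∈ normalizer (K : Set Y) := by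
  obtain ⟨n, hn⟩ := IsPGroup.iff_card.mp hR
  obtain ⟨m, hm⟩ := exists_pow_eq_self_of_coprime (hg.pow_right n).symm
  rw [← hm, ← hn]
  exact pow_mem h m

/-- The core of the normalizer of a `p`-subgroup `R`, as a subgroup of the whole group. -/
abbrev localCore (p : ℕ) (R : Subgroup Y) : Subgroup Y :=
  (Cfsg.pPrimeCore p (normalizer (R : Set Y))).map (normalizer (R : Set Y)).subtype

theorem localCore_coprime (R : Subgroup Y) : (Nat.card (localCore p R)).Coprime p := by
  rw [card_map_of_injective (subtype_injective _)]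
  exact CfsgLib.PCore.pPrimeCore_coprime

omit [Finite Y] hp in
theorem le_normalizer_localCore (R : Subgroup Y) :
    normalizer (R : Set Y) ≤ normalizer (localCore p R : Set Y) := by
  intro n hn
  rw [mem_normalizer_iff]
  intro x
  constructor
  · rintro ⟨y, hy, rfl⟩
    exact ⟨⟨n, hn⟩ * y * ⟨n, hn⟩⁻¹, (Cfsg.pPrimeCore_normal p _).conj_mem y hy _, rfl⟩
  · rintro ⟨y, hy, hyx⟩
    refine ⟨⟨n, hn⟩⁻¹ * y * ⟨n, hn⟩⁻¹⁻¹, (Cfsg.pPrimeCore_normal p _).conj_mem y hy _, ?_⟩
    rw [subtype_apply] at hyx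
    simp [hyx, mul_assoc]

theorem localCore_le_centralizer {R : Subgroup Y} (hR : IsPGroup p R) :
    localCore p R ≤ centralizer (R : Set Y) := by
  apply le_centralizer_of_commutator_eq_bot
  rw [eq_bot_iff, ← CfsgLib.PCore.inf_eq_bot_of_isPGroup_coprime hR (localCore_coprime (p := p) R)]
  refine le_inf ?_ ?_
  · rw [commutator_le]
    rintro x ⟨y, hy, rfl⟩ r hr
    rw [commutatorElement_def]
    exact mul_mem ((mem_normalizer_iff.mp y.2 r).mp hr) (inv_mem hr)
  · rw [commutator_le]
    intro x hx r hr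
    rw [commutatorElement_def, mul_assoc, mul_assoc]
    refine mul_mem hx ?_
    simpa [mul_assoc] using (mem_normalizer_iff.mp (le_normalizer_localCore R (le_normalizer hr)) x⁻¹).mp (inv_mem hx)

theorem localCore_le_centralizer_pCore {R : Subgroup Y} (hR : IsPGroup p R) :
    localCore p R ≤ centralizer (Cfsg.pCore p Y : Set Y) := by
  rintro _ ⟨d, hd, rfl⟩
  exact mem_centralizer_pCore_of_local hR
    (CfsgLib.PCore.pPrimeCore_coprime.coprime_dvd_left (orderOf_dvd_natCard _ hd))
    (CfsgLib.PCore.pPrimeCore_le_centralizer_pCore hd)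

/-- Enlarging `R` by `O_p(Y)` only enlarges the local core. -/
theorem localCore_le_localCore_sup {R : Subgroup Y} (hR : IsPGroup p R) :
    localCore p R ≤ localCore p (R ⊔ Cfsg.pCore p Y) := by
  set R₀ := R ⊔ Cfsg.pCore p Y
  set N₀ := normalizer (R₀ : Set Y)
  have hC : centralizer (R₀ : Set Y) ≤ normalizer (R : Set Y) :=
    (centralizer_le (SetLike.coe_subset_coe.mpr le_sup_left)).trans (centralizer_le_normalizer _)
  have hDC : localCore p R ≤ centralizer (R₀ : Set Y) := by
    rw [le_centralizer_iff]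
    exact sup_le (le_centralizer_iff.mp (localCore_le_centralizer hR))
      (le_centralizer_iff.mp (localCore_le_centralizer_pCore hR))
  haveI hCn : ((centralizer (R₀ : Set Y)).subgroupOf N₀).Normal :=
    (normal_subgroupOf_iff_le_normalizer (centralizer_le_normalizer _)).mpr fun n hn => by
      rw [mem_normalizer_iff]
      intro c
      simp only [mem_centralizer_iff, SetLike.mem_coe]
      constructor
      · intro hc r hr
        have h' := hc _ ((mem_normalizer_iff.mp (inv_mem hn) r).mp hr)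
        calc r * (n * c * n⁻¹) = n * ((n⁻¹ * r * n⁻¹⁻¹) * c) * n⁻¹ := by group
          _ = n * (c * (n⁻¹ * r * n⁻¹⁻¹)) * n⁻¹ := by rw [h']
          _ = n * c * n⁻¹ * r := by group
      · intro hc r hr
        have h' := hc _ ((mem_normalizer_iff.mp hn r).mp hr)
        calc r * c = n⁻¹ * ((n * r * n⁻¹) * (n * c * n⁻¹)) * n := by group
          _ = n⁻¹ * (n * c * n⁻¹ * (n * r * n⁻¹)) * n := by rw [h']
          _ = c * r := by group
  have hnorm : ((localCore p R).subgroupOf (centralizer (R₀ : Set Y))).Normal :=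
    (normal_subgroupOf_iff_le_normalizer hDC).mpr (hC.trans (le_normalizer_localCore R))
  have hDN : localCore p R ≤ N₀ := hDC.trans (centralizer_le_normalizer _)
  have hsn : ((localCore p R).subgroupOf N₀).IsSubnormal := by
    have hle : (localCore p R).subgroupOf N₀ ≤ (centralizer (R₀ : Set Y)).subgroupOf N₀ :=
      fun x hx => hDC hx
    refine IsSubnormal.step _ _ hle hCn.isSubnormal ?_
    rw [normal_subgroupOf_iff_le_normalizer hle]
    intro c hc
    rw [mem_normalizer_iff]
    intro x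
    have := mem_normalizer_iff.mp ((hC.trans (le_normalizer_localCore (p := p) R)) hc) (x : Y)
    simpa [mem_subgroupOf] using this
  have hle := CfsgLib.PCore.le_pPrimeCore_of_isSubnormal (p := p) hsn (by
    rw [Nat.card_congr (subgroupOfEquivOfLe hDN).toEquiv]
    exact localCore_coprime R)
  exact fun x hx => ⟨⟨x, hDN hx⟩, hle hx, rfl⟩

/-- The core of a `p`-local subgroup normalizes every component when `O_{p'}(Y) = 1`. -/
theorem localCore_le_normalizer_component (hO : Cfsg.pPrimeCore p Y = ⊥) {R : Subgroup Y}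
    (hR : IsPGroup p R) {K : Subgroup Y} (hK : Cfsg.IsComponent K) :
    localCore p R ≤ normalizer (K : Set Y) := by
  intro d hd
  have hR₀ : IsPGroup p ↥(R ⊔ Cfsg.pCore p Y) :=
    hR.to_sup_of_normal_right CfsgLib.PCore.pCore_isPGroup
  have hd₀ := localCore_le_localCore_sup hR hd
  refine mem_normalizer_of_pow_card hR₀
    ((localCore_coprime R).coprime_dvd_left (orderOf_dvd_natCard _ hd)) ?_
  refine pow_card_mem_normalizer_component hO hR₀ le_sup_right (localCore_le_centralizer hR₀ hd₀)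
    (localCore_coprime (p := p) (R ⊔ Cfsg.pCore p Y)) (fun t _ htN => ?_) hK
  rw [commutatorElement_def, mul_assoc, mul_assoc]
  refine mul_mem hd₀ ?_
  simpa [mul_assoc] using (mem_normalizer_iff.mp (le_normalizer_localCore _ htN) d⁻¹).mp (inv_mem hd₀)

/-- The image of the core of `N_X(R)` lies in the local core of the image of `R` modulo `O_{p'}(X)`. -/
theorem map_localCore_le {X : Type*} [Group X] [Finite X] {R : Subgroup X} (hR : IsPGroup p R) :
    (localCore p R).map (QuotientGroup.mk' (Cfsg.pPrimeCore p X)) ≤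
      localCore p (R.map (QuotientGroup.mk' (Cfsg.pPrimeCore p X))) := by
  set π := QuotientGroup.mk' (Cfsg.pPrimeCore p X)
  have hN : (normalizer (R : Set X)).map π = normalizer ((R.map π : Subgroup _) : Set _) :=
    map_normalizer_quotient CfsgLib.PCore.pPrimeCore_coprime hR
  have hle : (localCore p R).map π ≤ normalizer ((R.map π : Subgroup _) : Set _) :=
    hN ▸ map_mono (map_subtype_le _)
  have hn : (((localCore p R).map π).subgroupOf (normalizer ((R.map π : Subgroup _) : Set _))).Normal := by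
    rw [normal_subgroupOf_iff_le_normalizer hle, ← hN]
    exact (map_mono (le_normalizer_localCore (p := p) R)).trans (le_normalizer_map _)
  have h := CfsgLib.PCore.le_pPrimeCore (p := p) hn (by
    rw [Nat.card_congr (subgroupOfEquivOfLe hle).toEquiv]
    exact (localCore_coprime R).coprime_dvd_left (card_map_dvd _ _))
  exact fun x hx => ⟨⟨x, hle hx⟩, h hx, rfl⟩

theorem mem_normalizer_pComponent {X : Type*} [Group X] [Finite X] {K : Subgroup X}
    (hK : Cfsg.IsPComponent p K) {g : X}
    (hg : QuotientGroup.mk' (Cfsg.pPrimeCore p X) g ∈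
      normalizer ((K.map (QuotientGroup.mk' (Cfsg.pPrimeCore p X)) : Subgroup _) : Set _)) :
    g ∈ normalizer (K : Set X) := by
  rw [pComponent_eq hK]
  exact le_normalizer_pElemClosure (le_normalizer_comap _) (mem_comap.mpr hg)

end CfsgLib.Tech46
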