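import Cfsg.Agent.Lib.PGroup.Class2
import Cfsg.Agent.Lib.PGroup.Frattini
import Cfsg.Agent.Lib.OddOrder.PiCore
import Cfsg.Agent.Lib.PCore.Basic

/-!
# Finite `p`-groups, `p` odd, with all elements of order `p` central
-/

set_option autoImplicit false

namespace Cfsg.Tech46.PCentral

open Subgroup
open scoped commutatorElement

universe u

/-- All elements of order dividing `p` are central. -/
def IsCentral (p : ℕ) (H : Type u) [Group H] : Prop := ∀ x : H, x ^ p = 1 → x ∈ center H

variable {p : ℕ} [hp : Fact p.Prime]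

theorem IsCentral.subgroup {H : Type u} [Group H] (h : IsCentral p H) (U : Subgroup H) :
    IsCentral p U := fun x hx =>
  mem_center_iff.mpr fun g => Subtype.ext
    (mem_center_iff.mp (h x (by rw [← coe_pow, hx, coe_one])) g)

theorem dvd_choose_two (hp2 : p ≠ 2) : p ∣ p.choose 2 :=
  hp.out.dvd_choose_self two_ne_zero (lt_of_le_of_ne hp.out.two_le (Ne.symm hp2))

theorem mul_pow_of_comm_central {H : Type u} [Group H] (hp2 : p ≠ 2) {x y : H}
    (hz : ⁅y, x⁆ ∈ center H) (hzp : ⁅y, x⁆ ^ p = 1) : (x * y) ^ p = x ^ p * y ^ p := by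
  obtain ⟨q, hq⟩ := dvd_choose_two (p := p) hp2
  rw [CfsgLib.PGroup.mul_pow_of_central hz, hq, pow_mul, hzp, one_pow, mul_one]

theorem commutator_pow_eq_one_aux (hp2 : p ≠ 2) : ∀ (n : ℕ) {H : Type u} [Group H] [Finite H],
    Nat.card H ≤ n → IsPGroup p H → IsCentral p H →
      ∀ x h : H, (x ^ p) ^ p = 1 → ⁅x, h⁆ ^ p = 1 := by
  intro n
  induction n with
  | zero =>
    intro H _ _ hn
    have := Nat.card_pos (α := H)
    omega
  | succ n ih =>
    intro H _ _ hn hH hc x h hx
    by_cases hgen : zpowers x = ⊤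
    · obtain ⟨i, rfl⟩ := mem_zpowers_iff.mp (hgen.ge (mem_top h))
      rw [(commutatorElement_eq_one_iff_commute.mpr ((Commute.refl x).zpow_right i)), one_pow]
    obtain hbad | ⟨M, hM, hxM⟩ := eq_top_or_exists_le_coatom (zpowers x)
    · exact absurd hbad hgen
    haveI hMn : M.Normal := CfsgLib.PGroup.normal_of_isCoatom hH hM
    have hlt : Nat.card M ≤ n := by
      have : Nat.card M < Nat.card H := by
        refine lt_of_le_of_ne (card_le_card_group M) fun e => hM.1 ?_
        exact eq_top_of_card_eq M e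
      omega
    set y := h * x⁻¹ * h⁻¹ with hy
    have hxm : x ∈ M := hxM (mem_zpowers x)
    have hym : y ∈ M := hMn.conj_mem _ (inv_mem hxm) h
    have hxy : ⁅y, x⁆ ^ p = 1 := by
      have h1 := ih hlt (hH.to_subgroup M) (hc.subgroup M) ⟨x, hxm⟩ ⟨y, hym⟩
        (Subtype.ext (by simpa using hx))
      have h2 : ⁅x, y⁆ ^ p = 1 := by simpa [commutatorElement_def] using congrArg Subtype.val h1
      rw [← commutatorElement_inv, inv_pow, h2, inv_one]
    have hyp : y ^ p = (x ^ p)⁻¹ := by
      rw [hy, conj_pow, inv_pow, mem_center_iff.mp (inv_mem (hc _ hx)) h, mul_inv_cancel_right]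
    have hc' : ⁅x, h⁆ = x * y := by rw [hy, commutatorElement_def]; group
    rw [hc', mul_pow_of_comm_central hp2 (hc _ hxy) hxy, hyp, mul_inv_cancel]

theorem commutator_pow_eq_one (hp2 : p ≠ 2) {H : Type u} [Group H] [Finite H] (hH : IsPGroup p H)
    (hc : IsCentral p H) {x : H} (hx : (x ^ p) ^ p = 1) (h : H) : ⁅x, h⁆ ^ p = 1 :=
  commutator_pow_eq_one_aux hp2 _ le_rfl hH hc x h hx

/-- The subgroup generated by the `p`-th powers. -/
def powers (p : ℕ) (H : Type u) [Group H] : Subgroup H := closure (Set.range fun x : H => x ^ p)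

omit hp in
theorem powers_characteristic {H : Type u} [Group H] : (powers p H).Characteristic := by
  rw [characteristic_iff_map_le]
  intro φ
  rw [powers, MonoidHom.map_closure]
  refine closure_mono ?_
  rintro _ ⟨_, ⟨x, rfl⟩, rfl⟩
  exact ⟨φ x, (map_pow φ x p).symm⟩

/-- `Ω₁`, as a subgroup. -/
def omega {H : Type u} [Group H] (hc : IsCentral p H) : Subgroup H where
  carrier := {x | x ^ p = 1}
  one_mem' := one_pow p
  mul_mem' := fun {a b} ha hb => by
    show (a * b) ^ p = 1
    rw [(show Commute a b from (mem_center_iff.mp (hc a ha) b).symm).mul_pow,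
      show a ^ p = 1 from ha, show b ^ p = 1 from hb, one_mul]
  inv_mem' := fun {a} ha => by
    show a⁻¹ ^ p = 1
    rw [inv_pow, show a ^ p = 1 from ha, inv_one]

theorem index_powers_le (hp2 : p ≠ 2) : ∀ (n : ℕ) {H : Type u} [Group H] [Finite H],
    Nat.card H ≤ n → IsPGroup p H → ∀ hc : IsCentral p H,
      (powers p H).index ≤ Nat.card (omega hc) := by
  intro n
  induction n with
  | zero =>
    intro H _ _ hn
    have := Nat.card_pos (α := H)
    omega
  | succ n ih =>
    intro H _ _ hn hH hc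
    set Ω := omega hc with hΩ
    haveI hΩn : Ω.Normal := ⟨fun a ha g => by
      show (g * a * g⁻¹) ^ p = 1
      rw [conj_pow, show a ^ p = 1 from ha, mul_one, mul_inv_cancel]⟩
    set P1 := powers p H
    haveI := powers_characteristic (p := p) (H := H)
    by_cases hbot : Nat.card H = 1
    · have h1 : P1.index ≤ 1 := by
        rw [← hbot]
        exact Nat.le_of_dvd Nat.card_pos P1.index_dvd_card
      exact h1.trans Nat.card_pos
    -- the quotient
    have hΩne : Ω ≠ ⊥ := by
      intro h
      haveI : Nontrivial H := Finite.one_lt_card_iff_nontrivial.mp (by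
        have := Nat.card_pos (α := H); omega)
      obtain ⟨k, hk, hcard⟩ := hH.nontrivial_iff_card.mp inferInstance
      obtain ⟨x, hx⟩ := exists_prime_orderOf_dvd_card' (G := H) p (hcard ▸ dvd_pow_self p hk.ne')
      have hmem : x ∈ Ω := (show x ^ p = 1 by rw [← hx]; exact pow_orderOf_eq_one x)
      rw [h, mem_bot] at hmem
      rw [hmem, orderOf_one] at hx
      exact hp.out.ne_one hx.symm
    set π := QuotientGroup.mk' Ω
    have hπ : Function.Surjective π := QuotientGroup.mk'_surjective Ω
    have hlt : Nat.card (H ⧸ Ω) ≤ n := by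
      have h1 := card_eq_card_quotient_mul_card_subgroup Ω
      have h2 : 1 < Nat.card Ω := (one_lt_card_iff_ne_bot Ω).mpr hΩne
      have h3 := Nat.card_pos (α := H ⧸ Ω)
      nlinarith
    have hT : ∀ x : H, (x ^ p) ^ p = 1 ↔ (π x) ^ p = 1 := fun x => by
      rw [← map_pow]
      exact (QuotientGroup.eq_one_iff (N := Ω) (x ^ p)).symm
    have hc' : IsCentral p (H ⧸ Ω) := by
      intro q hq
      obtain ⟨x, rfl⟩ := hπ q
      refine mem_center_iff.mpr fun g => ?_
      obtain ⟨g, rfl⟩ := hπ g
      have h1 : π ⁅x, g⁆ = 1 :=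
        (QuotientGroup.eq_one_iff (N := Ω) _).mpr (commutator_pow_eq_one hp2 hH hc ((hT x).mpr hq) g)
      rw [map_commutatorElement] at h1
      exact (commutatorElement_eq_one_iff_commute.mp h1).symm.eq
    have hIH := ih hlt (hH.to_quotient Ω) hc'
    -- the preimage of `Ω₁` and the `p`-th power map on it
    let T : Subgroup H := (omega hc').comap π
    have hmemT : ∀ x : H, x ∈ T ↔ (x ^ p) ^ p = 1 := fun x => (hT x).symm
    let φ : T →* H := MonoidHom.mk' (fun x => (x : H) ^ p) fun a b => by
      have hz : ⁅(b : H), (a : H)⁆ ^ p = 1 :=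
        commutator_pow_eq_one hp2 hH hc ((hmemT b).mp b.2) a
      exact mul_pow_of_comm_central hp2 (hc _ hz) hz
    have hkerφ : φ.ker = Ω.subgroupOf T := by
      ext x
      exact Iff.rfl
    have hTcard : Nat.card (omega hc') = Nat.card φ.range := by
      rw [← index_ker φ, hkerφ]
      show _ = Ω.relIndex T
      have h1 : Ω ≤ T := fun x hx => (hmemT x).mpr (by rw [show x ^ p = 1 from hx, one_pow])
      have h2 := CfsgLib.PCore.card_comap_mk' Ω (omega hc')
      have h3 := CfsgLib.OddOrder.card_mul_relIndex_of_le h1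
      rw [h2] at h3
      first
        | exact (Nat.eq_of_mul_eq_mul_left Nat.card_pos h3).symm
        | exact (Nat.eq_of_mul_eq_mul_left Nat.card_pos (h3.trans (Nat.mul_comm _ _))).symm
    have hrangeP : φ.range ≤ P1 := by
      rintro _ ⟨x, rfl⟩
      exact subset_closure ⟨x, rfl⟩
    have hrangeΩ : φ.range ≤ Ω := by
      rintro _ ⟨x, rfl⟩
      exact (hmemT x).mp x.2
    have hmap : powers p (H ⧸ Ω) = P1.map π := by
      show _ = (Subgroup.closure _).map π
      rw [MonoidHom.map_closure, powers]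
      congr 1
      ext q
      constructor
      · rintro ⟨z, rfl⟩
        obtain ⟨x, rfl⟩ := hπ z
        exact ⟨x ^ p, ⟨x, rfl⟩, map_pow π x p⟩
      · rintro ⟨_, ⟨x, rfl⟩, rfl⟩
        exact ⟨π x, (map_pow π x p).symm⟩
    have hidx : (P1 ⊔ Ω).index = (powers p (H ⧸ Ω)).index := by
      rw [hmap, index_map, QuotientGroup.ker_mk', MonoidHom.range_eq_top.mpr hπ, index_top, mul_one]
    have hrel : P1.relIndex (P1 ⊔ Ω) ≤ φ.range.relIndex Ω := by
      rw [sup_comm, relIndex_sup_right]
      exact Nat.le_of_dvd (Nat.pos_of_ne_zero index_ne_zero_of_finite)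
        (relIndex_dvd_of_le_left Ω hrangeP)
    rw [← relIndex_mul_index (le_sup_left : P1 ≤ P1 ⊔ Ω), hidx,
      ← CfsgLib.OddOrder.card_mul_relIndex_of_le hrangeΩ, ← hTcard, mul_comm]
    exact Nat.mul_le_mul hIH hrel

end Cfsg.Tech46.PCentral
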