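import Cfsg.Agent.Lib.Tech46.PCentral
import Cfsg.Agent.Lib.PGroup.Critical
import Cfsg.Agent.Lib.ConstStab.Basic
import Cfsg.Agent.Lib.PLocal5.SmallRank
import Mathlib.RingTheory.ZMod.UnitsCyclic
import Cfsg.Prelude.Def_CaseTheorems
import Cfsg.Agent.Lib.OddOrder.Rank
import Cfsg.Agent.Lib.Techniques.Basic

/-!
# `p`-chief factors of groups of `p`-rank at most two, `p` odd
-/

set_option autoImplicit false

namespace Cfsg.Tech46.RankTwoChief

open Subgroup
open scoped commutatorElement

variable {R : Type*} [Group R] [Finite R] {p : ℕ} [hp : Fact p.Prime]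

theorem elementary_sup {A : Subgroup R} (hA : Cfsg.IsElementaryAbelian p A) {x : R}
    (hx : x ^ p = 1) (hc : A ≤ center R) : Cfsg.IsElementaryAbelian p (A ⊔ zpowers x : Subgroup R) := by
  have hmem : ∀ y ∈ A ⊔ zpowers x, ∃ a ∈ A, ∃ i : ℤ, y = a * x ^ i := by
    intro y hy
    haveI : A.Normal := ⟨fun a ha g => by
      rw [mem_center_iff.mp (hc ha) g, mul_inv_cancel_right]; exact ha⟩
    obtain ⟨a, ha, b, hb, rfl⟩ := mem_sup_of_normal_left.mp hy
    obtain ⟨i, rfl⟩ := mem_zpowers_iff.mp hb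
    exact ⟨a, ha, i, rfl⟩
  refine ⟨⟨⟨fun ⟨y, hy⟩ ⟨z, hz⟩ => Subtype.ext ?_⟩⟩, fun y hy => ?_⟩
  · obtain ⟨a, ha, i, rfl⟩ := hmem y hy
    obtain ⟨b, hb, j, rfl⟩ := hmem z hz
    have h1 : ∀ g : R, Commute g b := fun g => mem_center_iff.mp (hc hb) g
    have h2 : ∀ g : R, Commute a g := fun g => (mem_center_iff.mp (hc ha) g).symm
    exact ((h1 (a * x ^ i)).mul_right
      ((h2 (x ^ j)).mul_left ((Commute.refl x).zpow_zpow i j))).eq
  · obtain ⟨a, ha, i, rfl⟩ := hmem y hy
    have h2 : Commute a (x ^ i) := (mem_center_iff.mp (hc ha) _).symm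
    rw [h2.mul_pow, hA.2 a ha, one_mul, ← zpow_natCast, ← zpow_mul, mul_comm, zpow_mul,
      zpow_natCast, hx, one_zpow]

theorem elementary_of_le_center {A : Subgroup R} (hc : A ≤ center R) (hp' : ∀ a ∈ A, a ^ p = 1) :
    Cfsg.IsElementaryAbelian p A :=
  ⟨⟨⟨fun a b => Subtype.ext (mem_center_iff.mp (hc b.2) a)⟩⟩, hp'⟩

theorem le_center_of_normal_card_le (hR : IsPGroup p R) {E : Subgroup R} [hE : E.Normal]
    (h : Nat.card E ≤ p) : E ≤ center R := by
  by_cases hb : E = ⊥
  · rw [hb]; exact bot_le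
  obtain ⟨z, hzE, hzc, hzo⟩ := CfsgLib.PGroupBasic.exists_central_orderOf_eq hR E hb
  have : zpowers z = E := eq_of_le_of_card_ge (zpowers_le.mpr hzE) (by rw [Nat.card_zpowers, hzo]; exact h)
  rw [← this]
  exact zpowers_le.mpr hzc

/-- A nontrivial `p`-group of rank at most two, `p` odd, has a proper characteristic subgroup of
index at most `p ^ 2`. -/
theorem exists_char_index_le [Nontrivial R] (hp2 : p ≠ 2) (hR : IsPGroup p R)
    (hr : Cfsg.PRankLE p 2 R) :
    ∃ X : Subgroup R, X.Characteristic ∧ X ≠ ⊤ ∧ X.index ≤ p ^ 2 := by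
  set P1 := PCentral.powers p R
  haveI hP1c : P1.Characteristic := PCentral.powers_characteristic
  have hP1Φ : P1 ≤ frattini R := (closure_le _).mpr (by
    rintro _ ⟨x, rfl⟩
    exact CfsgLib.PGroup.pow_mem_frattini hR x)
  have hΦ : frattini R ≠ ⊤ := CfsgLib.PGroup.frattini_ne_top
  have hP1 : P1 ≠ ⊤ := fun e => hΦ (top_le_iff.mp (e ▸ hP1Φ))
  by_cases hc : PCentral.IsCentral p R
  · refine ⟨P1, hP1c, hP1, (PCentral.index_powers_le hp2 _ le_rfl hR hc).trans ?_⟩
    exact hr _ (elementary_of_le_center (fun x hx => hc x hx) fun a ha => ha).1 fun a ha => ha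
  obtain ⟨x₀, hx₀, hx₀c⟩ : ∃ x : R, x ^ p = 1 ∧ x ∉ center R := by
    by_contra h
    push Not at h
    exact hc h
  -- central elementary subgroups have order at most `p`
  have hsmall : ∀ A : Subgroup R, A ≤ center R → (∀ a ∈ A, a ^ p = 1) → Nat.card A ≤ p := by
    intro A hA hAp
    by_contra hlt
    have hE := elementary_sup (elementary_of_le_center hA hAp) hx₀ hA
    obtain ⟨a, ha⟩ := IsPGroup.iff_card.mp (hR.to_subgroup A)
    obtain ⟨b, hb⟩ := IsPGroup.iff_card.mp (hR.to_subgroup (A ⊔ zpowers x₀))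
    have hb2 : b ≤ 2 := (Nat.pow_le_pow_iff_right hp.out.one_lt).mp (hb ▸ hr _ hE.1 hE.2)
    have hlt' : Nat.card A < Nat.card (A ⊔ zpowers x₀ : Subgroup R) := by
      refine lt_of_le_of_ne (card_le_of_le le_sup_left) fun e => hx₀c ?_
      exact hA ((eq_of_le_of_card_ge le_sup_left e.ge).ge (mem_sup_right (mem_zpowers x₀)))
    rw [ha, hb] at hlt'
    have := (Nat.pow_lt_pow_iff_right hp.out.one_lt).mp hlt'
    exact hlt (ha ▸ (Nat.pow_le_pow_right hp.out.pos (show a ≤ 1 by omega)).trans (pow_one p).le)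
  -- noncentral characteristic elementary subgroups
  by_cases hchar : ∃ E : Subgroup R, E.Characteristic ∧ Cfsg.IsElementaryAbelian p E ∧ ¬ E ≤ center R
  · obtain ⟨E, hEc, hEe, hEn⟩ := hchar
    haveI := hEc
    refine ⟨centralizer (E : Set R), inferInstance, fun e => hEn ?_, ?_⟩
    · intro y hy
      exact mem_center_iff.mpr fun g =>
        (mem_centralizer_iff.mp (e.ge (mem_top g)) y hy).symm
    · obtain ⟨a, ha⟩ := IsPGroup.iff_card.mp (hR.to_subgroup E)
      have ha2 : a ≤ 2 := (Nat.pow_le_pow_iff_right hp.out.one_lt).mp (ha ▸ hr E hEe.1 hEe.2)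
      rcases ha2.lt_or_eq with hlt | rfl
      · exact absurd (le_center_of_normal_card_le hR
          (ha ▸ (Nat.pow_le_pow_right hp.out.pos (show a ≤ 1 by omega)).trans (pow_one p).le)) hEn
      · exact (Nat.le_of_dvd hp.out.pos
          (CfsgLib.OddOrder41.index_centralizer_dvd_of_card_sq hR E hEe ha)).trans
            (Nat.le_self_pow two_ne_zero p)
  push Not at hchar
  -- the elements of order `p` of a critical subgroup
  obtain ⟨C, hCc, hCC, hC1, hC2⟩ := CfsgLib.PGroup.exists_critical hR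
  haveI := hCc
  have hcen : ∀ y x : C, ⁅y, x⁆ ∈ center C ∧ ⁅y, x⁆ ^ p = 1 := by
    intro y x
    have h1 : ⁅y, x⁆ ∈ center C := mem_center_iff.mpr fun g =>
      Subtype.ext ((hC1 y x x.2).2 g g.2)
    refine ⟨h1, ?_⟩
    rw [← CfsgLib.PGroup.commutatorElement_pow_right_of_central h1, commutatorElement_eq_one_iff_mul_comm]
    exact Subtype.ext ((hC2 x x.2).2 y y.2)
  let Q : Subgroup R :=
    { carrier := {x | x ∈ C ∧ x ^ p = 1}
      one_mem' := ⟨C.one_mem, one_pow _⟩
      mul_mem' := fun {x y} hx hy => ⟨C.mul_mem hx.1 hy.1, by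
        have := PCentral.mul_pow_of_comm_central hp2 (x := (⟨x, hx.1⟩ : C)) (y := ⟨y, hy.1⟩)
          (hcen _ _).1 (hcen _ _).2
        have h := congrArg Subtype.val this
        simpa [hx.2, hy.2] using h⟩
      inv_mem' := fun {x} hx => ⟨C.inv_mem hx.1, by rw [inv_pow, hx.2, inv_one]⟩ }
  have hQ : Q.Characteristic := by
    rw [characteristic_iff_le_comap]
    exact fun φ x hx => ⟨(characteristic_iff_le_comap.mp hCc φ) hx.1,
      show φ x ^ p = 1 by rw [← map_pow, hx.2, map_one]⟩
  haveI := hQ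
  by_cases hQc : Q ≤ center R
  · -- the critical subgroup is cyclic
    have hQcard := hsmall Q hQc fun a ha => ha.2
    haveI hCyc : IsCyclic C := by
      refine CfsgLib.ConstStab.isCyclic_of_unique_prime_subgroup hp2 (hR.to_subgroup C) ?_
      intro x y hx1 hxp hyp
      have ho : orderOf (x : R) = p :=
        orderOf_eq_prime (by rw [← coe_pow, hxp, coe_one]) fun e => hx1 (Subtype.ext e)
      have hle : zpowers (x : R) = Q := by
        refine eq_of_le_of_card_ge (zpowers_le.mpr ⟨x.2, by rw [← coe_pow, hxp, coe_one]⟩) ?_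
        rw [Nat.card_zpowers, ho]
        exact hQcard
      obtain ⟨i, hi⟩ := mem_zpowers_iff.mp
        (hle.ge (⟨y.2, by rw [← coe_pow, hyp, coe_one]⟩ : (y : R) ∈ Q))
      exact mem_zpowers_iff.mpr ⟨i, Subtype.ext (by rw [coe_zpow]; exact hi)⟩
    set K0 := centralizer (C : Set R)
    set X := K0 ⊔ P1 with hX
    have hK0ne : K0 ≠ ⊤ := by
      intro e
      have hCtop : C = ⊤ := top_le_iff.mp (e ▸ hCC)
      refine hx₀c (mem_center_iff.mpr fun g => ?_)
      exact congrArg Subtype.val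
        (mul_comm' (⟨g, hCtop.ge (mem_top g)⟩ : C) ⟨x₀, hCtop.ge (mem_top x₀)⟩)
    haveI hXc : X.Characteristic := by
      rw [characteristic_iff_map_le]
      intro φ
      rw [hX, Subgroup.map_sup, characteristic_iff_map_eq.mp inferInstance φ,
        characteristic_iff_map_eq.mp hP1c φ]
    have hXtop : X ≠ ⊤ := by
      intro e
      refine hK0ne (frattini_nongenerating ?_)
      exact top_le_iff.mp (e ▸ sup_le_sup_left hP1Φ K0)
    refine ⟨X, hXc, hXtop, ?_⟩
    -- `R / X` is cyclic of exponent `p`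
    let f : R →* MulAut C := MulAut.conjNormal
    obtain ⟨m, hm⟩ := IsPGroup.iff_card.mp (hR.to_subgroup C)
    haveI : IsCyclic (MulAut C) := by
      haveI : IsCyclic (ZMod (Nat.card C))ˣ := by
        rw [hm]; exact ZMod.isCyclic_units_of_prime_pow p hp.out hp2 m
      exact (IsCyclic.mulAutMulEquiv (G := C)).isCyclic.mpr inferInstance
    have hker : f.ker ≤ X := by
      refine le_trans ?_ (le_sup_left : K0 ≤ X)
      intro h hh
      rw [mem_centralizer_iff]
      intro c hc'
      have h1 := congrArg (fun a : MulAut C => ((a ⟨c, hc'⟩ : C) : R)) (MonoidHom.mem_ker.mp hh)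
      simp only [f, MulAut.conjNormal_apply, MulAut.one_apply] at h1
      exact (mul_inv_eq_iff_eq_mul.mp h1).symm
    obtain ⟨g, hg⟩ := IsCyclic.exists_generator (α := f.range)
    obtain ⟨r, hr'⟩ := g.2
    have hgen : ∀ h : R, ∃ i : ℤ, (r ^ i)⁻¹ * h ∈ X := by
      intro h
      obtain ⟨i, hi⟩ := mem_zpowers_iff.mp (hg ⟨f h, h, rfl⟩)
      refine ⟨i, hker ?_⟩
      have hi' : (g : MulAut C) ^ i = f h := congrArg Subtype.val hi
      rw [MonoidHom.mem_ker, map_mul, map_inv, map_zpow, hr', hi', inv_mul_cancel]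
    haveI : X.Normal := inferInstance
    have hrX : (QuotientGroup.mk' X r) ^ p = 1 := by
      rw [← map_pow]
      exact (QuotientGroup.eq_one_iff _).mpr (mem_sup_right (subset_closure ⟨r, rfl⟩))
    have hall : ∀ q : R ⧸ X, q ∈ zpowers (QuotientGroup.mk' X r) := by
      intro q
      obtain ⟨h, rfl⟩ := QuotientGroup.mk'_surjective X q
      obtain ⟨i, hi⟩ := hgen h
      refine mem_zpowers_iff.mpr ⟨i, ?_⟩
      rw [← map_zpow]
      exact QuotientGroup.eq.mpr hi
    rw [Subgroup.index, ← orderOf_eq_card_of_forall_mem_zpowers hall]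
    exact (Nat.le_of_dvd hp.out.pos (orderOf_dvd_of_pow_eq_one hrX)).trans
      (Nat.le_self_pow two_ne_zero p)
  -- `Q` is not central, hence not abelian
  have hQe : ∀ a ∈ Q, a ^ p = 1 := fun a ha => ha.2
  have hQnc : ¬ IsMulCommutative Q := fun h => hQc (hchar Q hQ ⟨h, hQe⟩)
  set Z := Q ⊓ centralizer (Q : Set R) with hZdef
  haveI hZ : Z.Characteristic := by
    rw [characteristic_iff_le_comap]
    intro φ x hx
    exact ⟨(characteristic_iff_le_comap.mp hQ φ) hx.1,
      (characteristic_iff_le_comap.mp (inferInstance : (centralizer (Q : Set R)).Characteristic) φ) hx.2⟩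
  have hZe : Cfsg.IsElementaryAbelian p Z :=
    ⟨⟨⟨fun a b => Subtype.ext (mem_centralizer_iff.mp b.2.2 a a.2.1)⟩⟩, fun a ha => hQe a ha.1⟩
  have hZc := hchar Z hZ hZe
  have hZcard := hsmall Z hZc fun a ha => hQe a ha.1
  have hQQ : ∀ a ∈ Q, ∀ b ∈ Q, ⁅a, b⁆ ∈ Z := by
    intro a ha b hb
    refine ⟨Q.mul_mem (Q.mul_mem (Q.mul_mem ha hb) (Q.inv_mem ha)) (Q.inv_mem hb), ?_⟩
    exact mem_centralizer_iff.mpr fun q hq => (hC1 a b hb.1).2 q hq.1
  have hQ3 : Nat.card Q ≤ p ^ 3 := by
    refine CfsgLib.SmallRank.card_le_of_exponent_rank_two (fun x => Subtype.ext (hQe x x.2)) ?_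
    intro E hE
    haveI := hE.1
    have := hr (E.map Q.subtype) inferInstance (by
      rintro _ ⟨a, ha, rfl⟩
      rw [← map_pow, hE.2 a ha, map_one])
    rwa [card_map_of_injective Q.subtype_injective] at this
  -- two generators of `Q` over `Z`
  obtain ⟨q₁, hq₁, hq₁Z⟩ : ∃ q ∈ Q, q ∉ Z := by
    by_contra h
    push Not at h
    exact hQnc ⟨⟨fun a b => Subtype.ext (mem_centralizer_iff.mp (h b b.2).2 a a.2)⟩⟩
  set Z1 := Z ⊔ zpowers q₁ with hZ1
  have hZ1comm : ∀ y ∈ Z1, Commute q₁ y := by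
    intro y hy
    have hle : Z1 ≤ centralizer ({q₁} : Set R) := sup_le
      (fun z hz => mem_centralizer_singleton_iff.mpr (mem_center_iff.mp (hZc hz) q₁).symm)
      (zpowers_le.mpr (mem_centralizer_singleton_iff.mpr rfl))
    exact (mem_centralizer_singleton_iff.mp (hle hy)).symm
  obtain ⟨q₂, hq₂, hq₂Z⟩ : ∃ q ∈ Q, q ∉ Z1 := by
    by_contra h
    push Not at h
    exact hq₁Z ⟨hq₁, mem_centralizer_iff.mpr fun q hq => (hZ1comm q (h q hq)).symm.eq⟩
  have hZne : Z ≠ ⊥ := by
    intro e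
    apply hQnc
    refine ⟨⟨fun a b => Subtype.ext ?_⟩⟩
    have := hQQ a a.2 b b.2
    rw [e, mem_bot] at this
    exact (commutatorElement_eq_one_iff_commute.mp this).eq
  have hQgen : Z1 ⊔ zpowers q₂ = Q := by
    have hle : Z1 ⊔ zpowers q₂ ≤ Q :=
      sup_le (sup_le inf_le_left (zpowers_le.mpr hq₁)) (zpowers_le.mpr hq₂)
    refine eq_of_le_of_card_ge hle (hQ3.trans ?_)
    obtain ⟨a, ha⟩ := IsPGroup.iff_card.mp (hR.to_subgroup Z)
    obtain ⟨b, hb⟩ := IsPGroup.iff_card.mp (hR.to_subgroup Z1)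
    obtain ⟨c, hc'⟩ := IsPGroup.iff_card.mp (hR.to_subgroup (Z1 ⊔ zpowers q₂))
    have h0 := (one_lt_card_iff_ne_bot Z).mpr hZne
    have h1 : Nat.card Z < Nat.card Z1 := by
      refine lt_of_le_of_ne (card_le_of_le le_sup_left) fun e => hq₁Z ?_
      exact (eq_of_le_of_card_ge (le_sup_left : Z ≤ Z1) e.ge).ge (mem_sup_right (mem_zpowers q₁))
    have h2 : Nat.card Z1 < Nat.card (Z1 ⊔ zpowers q₂ : Subgroup R) := by
      refine lt_of_le_of_ne (card_le_of_le le_sup_left) fun e => hq₂Z ?_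
      exact (eq_of_le_of_card_ge (le_sup_left : Z1 ≤ _) e.ge).ge (mem_sup_right (mem_zpowers q₂))
    rw [ha] at h0 h1
    rw [hb] at h1 h2
    rw [hc'] at h2 ⊢
    have e0 : a ≠ 0 := fun h => by rw [h, pow_zero] at h0; omega
    have e1 := (Nat.pow_lt_pow_iff_right hp.out.one_lt).mp h1
    have e2 := (Nat.pow_lt_pow_iff_right hp.out.one_lt).mp h2
    exact Nat.pow_le_pow_right hp.out.pos (by omega)
  -- the action on `Q / Z`
  set π := QuotientGroup.mk' Z
  set C1 := (centralizer ((Q.map π : Subgroup (R ⧸ Z)) : Set (R ⧸ Z))).comap π with hC1def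
  have hmemC1 : ∀ h : R, h ∈ C1 ↔ ∀ q ∈ Q, ⁅h, q⁆ ∈ Z := by
    intro h
    rw [hC1def, mem_comap, mem_centralizer_iff]
    constructor
    · intro H q hq
      rw [← QuotientGroup.eq_one_iff, ← QuotientGroup.mk'_apply, map_commutatorElement,
        commutatorElement_eq_one_iff_commute]
      exact (H (π q) (mem_map_of_mem π hq)).symm
    · rintro H _ ⟨q, hq, rfl⟩
      have h1 := H q hq
      rw [← QuotientGroup.eq_one_iff, ← QuotientGroup.mk'_apply, map_commutatorElement,
        commutatorElement_eq_one_iff_commute] at h1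
      exact h1.symm.eq
  by_cases hC1top : C1 = ⊤
  · refine ⟨centralizer (Q : Set R), inferInstance, fun e => hQnc ?_, ?_⟩
    · exact ⟨⟨fun a b => Subtype.ext (mem_centralizer_iff.mp (e.ge (mem_top (b : R))) a a.2)⟩⟩
    have hmemZ : ∀ (h : R) (q : R), q ∈ Q → ⁅h, q⁆ ∈ Z := fun h q hq =>
      (hmemC1 h).mp (hC1top.ge (mem_top h)) q hq
    let F : R ⧸ centralizer (Q : Set R) → Z × Z := fun c =>
      (⟨⁅c.out, q₁⁆, hmemZ _ _ hq₁⟩, ⟨⁅c.out, q₂⁆, hmemZ _ _ hq₂⟩)
    have hF : Function.Injective F := by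
      intro c d hcd
      have e1 : ⁅c.out, q₁⁆ = ⁅d.out, q₁⁆ := congrArg (fun t : Z × Z => (t.1 : R)) hcd
      have e2 : ⁅c.out, q₂⁆ = ⁅d.out, q₂⁆ := congrArg (fun t : Z × Z => (t.2 : R)) hcd
      have key : ∀ q : R, ⁅c.out, q⁆ = ⁅d.out, q⁆ → Commute (c.out⁻¹ * d.out) q := by
        intro q e
        rw [commutatorElement_def, commutatorElement_def, mul_left_inj] at e
        show c.out⁻¹ * d.out * q = q * (c.out⁻¹ * d.out)
        calc c.out⁻¹ * d.out * q = c.out⁻¹ * (d.out * q * d.out⁻¹) * d.out := by group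
          _ = c.out⁻¹ * (c.out * q * c.out⁻¹) * d.out := by rw [e]
          _ = q * (c.out⁻¹ * d.out) := by group
      have hle : Q ≤ centralizer ({c.out⁻¹ * d.out} : Set R) := by
        refine hQgen.ge.trans ?_
        refine sup_le (sup_le (fun z hz => ?_) (zpowers_le.mpr ?_)) (zpowers_le.mpr ?_)
        · exact mem_centralizer_singleton_iff.mpr (mem_center_iff.mp (hZc hz) _).symm
        · exact mem_centralizer_singleton_iff.mpr (key q₁ e1).symm.eq
        · exact mem_centralizer_singleton_iff.mpr (key q₂ e2).symm.eq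
      rw [← QuotientGroup.out_eq' c, ← QuotientGroup.out_eq' d]
      exact QuotientGroup.eq.mpr
        (mem_centralizer_iff.mpr fun q hq => mem_centralizer_singleton_iff.mp (hle hq))
    have h1 := Nat.card_le_card_of_injective F hF
    rw [Nat.card_prod] at h1
    calc (centralizer (Q : Set R)).index ≤ Nat.card Z * Nat.card Z := h1
      _ ≤ p * p := Nat.mul_le_mul hZcard hZcard
      _ = p ^ 2 := (pow_two p).symm
  · refine ⟨C1, ?_, hC1top, ?_⟩
    · rw [characteristic_iff_le_comap]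
      intro φ h hh
      rw [mem_comap, hmemC1]
      intro q hq
      have h1 := (hmemC1 h).mp hh (φ.symm q) ((characteristic_iff_le_comap.mp hQ φ.symm) hq)
      have h2 := (characteristic_iff_le_comap.mp hZ φ) h1
      rw [mem_comap, map_commutatorElement] at h2
      simpa using h2
    haveI : (Q.map π).Normal := Subgroup.Normal.map inferInstance π (QuotientGroup.mk'_surjective Z)
    have hRq := hR.to_quotient Z
    have hQe' : Cfsg.IsElementaryAbelian p (Q.map π) := by
      refine ⟨⟨⟨fun ⟨_, a, ha, ea⟩ ⟨_, b, hb, eb⟩ => Subtype.ext ?_⟩⟩, ?_⟩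
      · subst ea eb
        have := hQQ a ha b hb
        rw [← QuotientGroup.eq_one_iff, ← QuotientGroup.mk'_apply, map_commutatorElement,
          commutatorElement_eq_one_iff_commute] at this
        exact this.eq
      · rintro _ ⟨a, ha, rfl⟩
        rw [← map_pow, hQe a ha, map_one]
    have hidx : C1.index = (centralizer ((Q.map π : Subgroup (R ⧸ Z)) : Set (R ⧸ Z))).index :=
      index_comap_of_surjective _ (QuotientGroup.mk'_surjective Z)
    rw [hidx]
    obtain ⟨a, ha⟩ := IsPGroup.iff_card.mp (hRq.to_subgroup (Q.map π))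
    obtain ⟨z, hz⟩ := IsPGroup.iff_card.mp (hR.to_subgroup Z)
    obtain ⟨q', hq'⟩ := IsPGroup.iff_card.mp (hR.to_subgroup Q)
    have hmul : Nat.card Q = Nat.card Z * Nat.card (Q.map π) := by
      rw [← CfsgLib.OddOrder.card_mul_relIndex_of_le (inf_le_left : Z ≤ Q)]
      congr 1
      rw [← relIndex_bot_left, ← Subgroup.map_bot π, relIndex_map_map, QuotientGroup.ker_mk',
        bot_sup_eq, sup_eq_left.mpr (inf_le_left : Z ≤ Q)]
    have ha2 : a ≤ 2 := by
      rw [hq', hz, ha, ← pow_add] at hmul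
      have e := Nat.pow_right_injective hp.out.two_le hmul
      have e3 := (Nat.pow_le_pow_iff_right hp.out.one_lt).mp (hq' ▸ hQ3)
      have h0 := (one_lt_card_iff_ne_bot Z).mpr hZne
      rw [hz] at h0
      have e0 : z ≠ 0 := fun h => by rw [h, pow_zero] at h0; omega
      omega
    rcases ha2.lt_or_eq with hlt | rfl
    · exfalso
      have hle := le_center_of_normal_card_le hRq (E := Q.map π)
        (ha ▸ (Nat.pow_le_pow_right hp.out.pos (show a ≤ 1 by omega)).trans (pow_one p).le)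
      refine hC1top (eq_top_iff.mpr fun h _ => ?_)
      rw [hC1def, mem_comap, mem_centralizer_iff]
      intro q hq
      exact (mem_center_iff.mp (hle hq) _).symm
    · exact (Nat.le_of_dvd hp.out.pos
        (CfsgLib.OddOrder41.index_centralizer_dvd_of_card_sq hRq _ hQe' ha)).trans
          (Nat.le_self_pow two_ne_zero p)

/-- Every `p`-chief factor of a group of `p`-rank at most two has order at most `p ^ 2`, `p` odd. -/
theorem chief_factor_le {G : Type*} [Group G] [Finite G] (hp2 : p ≠ 2) (hr : Cfsg.PRankLE p 2 G)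
    (H K : Subgroup G) [hH : H.Normal] [hK : K.Normal] (hKH : K < H)
    (hpow : ∃ n : ℕ, K.relIndex H = p ^ n)
    (hchief : ∀ L : Subgroup G, L.Normal → K ≤ L → L ≤ H → L = K ∨ L = H) :
    K.relIndex H = p ∨ K.relIndex H = p ^ 2 := by
  obtain ⟨n, hn⟩ := hpow
  -- the factor is abelian
  have hab : ⁅H, H⁆ ≤ K := by
    rcases hchief (K ⊔ ⁅H, H⁆) inferInstance le_sup_left (sup_le hKH.le (commutator_le_self H)) with
      h | h
    · exact h ▸ le_sup_right
    · exfalso
      have hq : IsPGroup p (H ⧸ K.subgroupOf H) := IsPGroup.of_card (n := n) hn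
      haveI : Group.IsNilpotent (H ⧸ K.subgroupOf H) := hq.isNilpotent
      haveI : Nontrivial (H ⧸ K.subgroupOf H) := QuotientGroup.nontrivial_iff.mpr fun e =>
        hKH.not_ge (subgroupOf_eq_top.mp e)
      refine (Group.IsSolvable.commutator_lt_top_of_nontrivial (H ⧸ K.subgroupOf H)).ne ?_
      rw [eq_top_iff]
      intro q _
      obtain ⟨⟨x, hx⟩, rfl⟩ := QuotientGroup.mk'_surjective _ q
      obtain ⟨k, hk, c, hc, rfl⟩ := mem_sup_of_normal_left.mp (h.ge hx)
      have hc' : (⟨c, commutator_le_self H hc⟩ : H) ∈ _root_.commutator H := by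
        rw [← map_subtype_commutator] at hc
        obtain ⟨d, hd, hdc⟩ := hc
        exact (Subtype.ext hdc.symm : (⟨c, _⟩ : H) = d) ▸ hd
      have he : QuotientGroup.mk' (K.subgroupOf H) ⟨k * c, hx⟩ =
          QuotientGroup.mk' (K.subgroupOf H) ⟨c, commutator_le_self H hc⟩ := by
        refine (QuotientGroup.eq.mpr ?_).symm
        rw [mem_subgroupOf]
        have := hK.conj_mem k hk c⁻¹
        simpa [mul_assoc] using this
      rw [he, commutator_def]
      have := mem_map_of_mem (QuotientGroup.mk' (K.subgroupOf H)) hc'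
      rw [commutator_def, map_commutator] at this
      exact commutator_mono le_top le_top this
  have hKn : ∀ Y : Subgroup G, K ≤ Y → Y ≤ H → H ≤ normalizer (Y : Set G) := by
    intro Y hKY hYH
    rw [le_normalizer_iff]
    intro g hg y hy
    have hc : ⁅g, y⁆ ∈ K := hab (commutator_mem_commutator hg (hYH hy))
    have := mul_mem (hKY hc) hy
    rw [commutatorElement_def] at this
    simpa [mul_assoc] using this
  -- a Sylow subgroup of `H` covers the factor
  obtain ⟨P⟩ := (inferInstance : Nonempty (Sylow p H))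
  set N := normalizer (((P : Subgroup H).map H.subtype : Subgroup G) : Set G)
  have hfr : N ⊔ H = ⊤ := Sylow.normalizer_sup_eq_top P
  have hPH : (P : Subgroup H).map H.subtype ≤ H := map_subtype_le _
  have hcover : (P : Subgroup H).map H.subtype ⊔ K = H := by
    refine le_antisymm (sup_le hPH hKH.le) (relIndex_eq_one.mp ?_)
    set Y := (P : Subgroup H).map H.subtype ⊔ K
    have h1 : Y.relIndex H ∣ p ^ n := hn ▸ relIndex_dvd_of_le_left H le_sup_right
    have h2 : Y.relIndex H ∣ (P : Subgroup H).index := by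
      have hd := relIndex_dvd_of_le_left H (le_sup_left : (P : Subgroup H).map H.subtype ≤ Y)
      have e : ((P : Subgroup H).map H.subtype).relIndex H = (P : Subgroup H).index := by
        rw [relIndex, subgroupOf, comap_map_eq_self_of_injective H.subtype_injective]
      rwa [e] at hd
    exact Nat.eq_one_of_dvd_coprimes
      ((hp.out.coprime_iff_not_dvd.mpr P.not_dvd_index).pow_left n) h1 h2
  obtain ⟨M, -, ⟨⟨hMP, hMn, hMK⟩, hMmin⟩⟩ := Finite.exists_le_minimal
    (p := fun M : Subgroup G => M ≤ (P : Subgroup H).map H.subtype ∧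
      N ≤ normalizer (M : Set G) ∧ M ⊔ K = H)
    (a := (P : Subgroup H).map H.subtype) ⟨le_rfl, le_rfl, hcover⟩
  have hMp : IsPGroup p M := (P.2.map _).to_le hMP
  haveI : Nontrivial M := (nontrivial_iff_ne_bot M).mpr fun e => by
    rw [e, bot_sup_eq] at hMK
    exact hKH.ne hMK
  have hMr : Cfsg.PRankLE p 2 M := CfsgLib.OddOrder.PRankLE.subgroup _ hr
  obtain ⟨X, hXc, hXtop, hXidx⟩ := exists_char_index_le hp2 hMp hMr
  haveI := hXc
  set X' := X.map M.subtype with hX'
  have hX'M : X' ≤ M := map_subtype_le _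
  have hX'n : N ≤ normalizer (X' : Set G) :=
    hMn.trans (CfsgLib.Techniques.normalizer_le_normalizer_map_subtype M X)
  have hX'lt : X' < M := by
    refine lt_of_le_of_ne hX'M fun e => hXtop ?_
    rw [eq_top_iff]
    intro m _
    obtain ⟨x, hx, hxm⟩ := e.ge m.2
    rwa [← Subtype.ext hxm]
  have hX'K : X' ≤ K := by
    have hXH : X' ⊔ K ≤ H := sup_le (hX'M.trans (hMP.trans hPH)) hKH.le
    have hnorm : (X' ⊔ K).Normal := by
      rw [← normalizer_eq_top_iff, eq_top_iff, ← hfr]
      refine sup_le ?_ (hKn _ le_sup_right hXH)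
      exact (le_inf hX'n (le_top.trans (normalizer_eq_top (H := K)).ge)).trans fun g hg => by
        rw [← CfsgLib.Techniques.map_conj_eq_self_iff, Subgroup.map_sup,
          CfsgLib.Techniques.map_conj_eq_self_iff.mpr hg.1,
          CfsgLib.Techniques.map_conj_eq_self_iff.mpr hg.2]
    rcases hchief _ hnorm le_sup_right hXH with h | h
    · exact le_sup_left.trans h.le
    · exact absurd (hMmin ⟨hX'M.trans hMP, hX'n, h⟩ hX'M) hX'lt.not_ge
  have hle : K.relIndex H ≤ p ^ 2 := by
    have h1 : K.relIndex H = K.relIndex M := by rw [← hMK, relIndex_sup_right]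
    rw [h1]
    refine le_trans (Nat.le_of_dvd (Nat.pos_of_ne_zero index_ne_zero_of_finite)
      (relIndex_dvd_of_le_left M hX'K)) ?_
    show ((X.map M.subtype).comap M.subtype).index ≤ _
    rw [comap_map_eq_self_of_injective M.subtype_injective]
    exact hXidx
  rw [hn] at hle ⊢
  have hn2 : n ≤ 2 := (Nat.pow_le_pow_iff_right hp.out.one_lt).mp hle
  have hn0 : n ≠ 0 := fun e => hKH.not_ge (relIndex_eq_one.mp (by rw [hn, e, pow_zero]))
  rcases (show n = 1 ∨ n = 2 by omega) with rfl | rfl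
  · exact Or.inl (pow_one p)
  · exact Or.inr rfl

end Cfsg.Tech46.RankTwoChief
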