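import Cfsg.Agent.Lib.OddOrder.PiCore
import Cfsg.Agent.Lib.PLocal.NoSLTwo
import Cfsg.Agent.Lib.Solvable.Fitting
import Cfsg.Agent.Lib.Tech46.CoprimeGen

/-!
# Centralizers of SCN subgroups of the Fitting subgroup of a Hall subgroup
-/

set_option autoImplicit false

namespace Cfsg.Tech46.SCNHall

open Subgroup CfsgLib.OddOrder
open scoped commutatorElement

variable {S : Type*} [Group S] [Finite S]

/-- A `p`-element centralizing `A` whose commutators with `F(S)` lie in `A` centralizes `O_r(S)`. -/
theorem commute_of_ne {p r : ℕ} (hp : p.Prime) (hr : r.Prime) (hpr : r ≠ p) {A : Subgroup S} {x f : S}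
    (hx : ∃ k : ℕ, x ^ p ^ k = 1) (hxA : x ∈ centralizer (A : Set S))
    (hF : ∀ g ∈ Cfsg.fittingSubgroup S, ⁅g, x⁆ ∈ A) (hf : f ∈ Cfsg.pCore r S) : Commute x f := by
  haveI := Fact.mk hr
  haveI : (Cfsg.pCore r S).Normal := Cfsg.pCore_normal r S
  obtain ⟨k, hk⟩ := hx
  set z := ⁅f, x⁆ with hz
  have hzA : z ∈ A := hF f (CfsgLib.Fitting.pCore_le_fitting hr hf)
  have hzr : z ∈ Cfsg.pCore r S := by
    have := mul_mem hf ((inferInstance : (Cfsg.pCore r S).Normal).conj_mem f⁻¹ (inv_mem hf) x)
    rw [hz, commutatorElement_def]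
    simpa [mul_assoc] using this
  have hcomm : Commute z x := mem_centralizer_iff.mp hxA z hzA
  have hconj : z * x = f * x * f⁻¹ := by rw [hz, commutatorElement_def]; group
  have h1 : z ^ p ^ k = 1 := by
    have h2 : (z * x) ^ p ^ k = 1 := by rw [hconj, conj_pow, hk, mul_one, mul_inv_cancel]
    rwa [hcomm.mul_pow, hk, mul_one] at h2
  obtain ⟨m, hm⟩ := CfsgLib.PCore.pCore_isPGroup (p := r) (G := S) ⟨z, hzr⟩
  have hz1 : z = 1 := orderOf_eq_one_iff.mp (Nat.eq_one_of_dvd_coprimes
    (((Nat.coprime_primes hp hr).mpr (Ne.symm hpr)).pow k m) (orderOf_dvd_of_pow_eq_one h1)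
    (orderOf_dvd_of_pow_eq_one (by simpa using congrArg Subtype.val hm)))
  exact (commutatorElement_eq_one_iff_commute.mp hz1).symm

variable [Group.IsSolvable S]

/-- `p`-stability: such a `p`-element lies in the Fitting subgroup, `p ≥ 5`. -/
theorem mem_fitting_of_quadratic {p : ℕ} [hp : Fact p.Prime] (hp5 : 5 ≤ p) {A : Subgroup S} {x : S}
    (hx : ∃ k : ℕ, x ^ p ^ k = 1) (hxA : x ∈ centralizer (A : Set S))
    (hF : ∀ g ∈ Cfsg.fittingSubgroup S, ∀ y ∈ zpowers x, ⁅g, y⁆ ∈ A) :
    x ∈ Cfsg.fittingSubgroup S := by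
  set V := Cfsg.pCore p S
  haveI : V.Normal := Cfsg.pCore_normal p S
  have hVp : IsPGroup p V := CfsgLib.PCore.pCore_isPGroup
  have hstab : Cfsg.IsPStableOn p V := by
    by_contra hns
    obtain ⟨M, f, hf⟩ := CfsgLib.PLocal.exists_sl2_of_not_isPStableOn_pGroup (by omega) V hVp hns
    exact CfsgLib.PLocal.noSLTwo_of_isPSolvable hp5 (CfsgLib.PCore.isPSolvable_of_isSolvable) M f hf
  have hquad : ⁅⁅V, zpowers x⁆, zpowers x⁆ = ⊥ := by
    refine commutator_eq_bot_iff_le_centralizer.mpr ?_
    refine (commutator_le.mpr fun g hg y hy => ?_ : ⁅V, zpowers x⁆ ≤ A).trans ?_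
    · exact hF g (CfsgLib.Fitting.pCore_le_fitting hp.out hg) y hy
    · exact le_centralizer_iff.mp (zpowers_le.mpr hxA)
  have hmem := hstab x hquad
  -- the normal subgroup `W`
  set C := centralizer (V : Set S)
  set D := (Cfsg.pCore p (S ⧸ C)).comap (QuotientGroup.mk' C) with hD
  haveI : D.Normal := (Cfsg.pCore_normal p (S ⧸ C)).comap _
  set U : Subgroup S := ⨅ r : {r : ℕ // r.Prime ∧ r ≠ p}, centralizer (Cfsg.pCore r S : Set S) with hU
  haveI : U.Normal := normal_iInf_normal fun r =>
    haveI := Cfsg.pCore_normal (r : ℕ) S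
    inferInstance
  set W := D ⊓ U with hW
  haveI hWn : W.Normal := inferInstance
  have hxW : x ∈ W := ⟨hmem, mem_iInf.mpr fun r => mem_centralizer_iff.mpr fun f hf =>
    ((commute_of_ne hp.out r.2.1 r.2.2 hx hxA (fun g hg => hF g hg x (mem_zpowers x)) hf).symm).eq⟩
  have hWC : W ⊓ C ≤ Cfsg.fittingSubgroup S := by
    refine le_trans (le_centralizer_iff.mp ?_) CfsgLib.Fitting.centralizer_fitting_le
    rw [CfsgLib.Fitting.fitting_eq_iSup_pCore]
    refine iSup_le fun r => le_centralizer_iff.mp ?_
    by_cases hr : (r : ℕ) = p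
    · rw [hr]; exact inf_le_right
    · exact (inf_le_left.trans inf_le_right).trans (iInf_le (fun r : {r : ℕ // r.Prime ∧ r ≠ p} =>
        centralizer (Cfsg.pCore r S : Set S)) ⟨r, Nat.prime_of_mem_primeFactors r.2, hr⟩)
  -- the Sylow `p`-subgroup of `W`
  have hxp : IsPGroup p (zpowers x) := by
    obtain ⟨k, hk⟩ := hx
    exact IsPGroup.of_card_dvd_pow (n := k) (by rw [Nat.card_zpowers]; exact orderOf_dvd_of_pow_eq_one hk)
  obtain ⟨P, hP⟩ := (hxp.comap_subtype (K := W)).exists_le_sylow
  have hnorm : (P : Subgroup W).Normal := by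
    have hle : (W ⊓ C).subgroupOf W ≤ normalizer ((P : Subgroup W) : Set W) := by
      intro z hz
      rw [mem_subgroupOf] at hz
      -- split `z` into its `p`-part and its `p'`-part
      obtain ⟨a, m, hm, hord⟩ :=
        Nat.exists_eq_pow_mul_and_not_dvd (orderOf_pos z).ne' p hp.out.ne_one
      have hco : (m : ℕ).Coprime (p ^ a) :=
        (hp.out.coprime_iff_not_dvd.mpr hm).symm.pow_right a
      have hbez := Nat.gcd_eq_gcd_ab m (p ^ a)
      rw [show Nat.gcd m (p ^ a) = 1 from hco, Nat.cast_one] at hbez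
      have hzeq : z = (z ^ m) ^ Nat.gcdA m (p ^ a) * (z ^ p ^ a) ^ Nat.gcdB m (p ^ a) := by
        rw [← zpow_natCast z m, ← zpow_natCast z (p ^ a), ← zpow_mul, ← zpow_mul, ← zpow_add, ← hbez,
          zpow_one]
      rw [hzeq]
      refine mul_mem (zpow_mem ?_ _) (zpow_mem ?_ _)
      · -- the `p`-part lies in the normal `p`-subgroup `O_p(S) ∩ W`
        have hzm : (z ^ m : W) ^ p ^ a = 1 := by
          rw [← pow_mul, mul_comm, ← hord, pow_orderOf_eq_one]
        have hzF : ((z ^ m : W) : S) ∈ Cfsg.fittingSubgroup S := by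
          rw [coe_pow]; exact pow_mem (hWC hz) m
        haveI hn : (V.subgroupOf W).Normal := Subgroup.Normal.subgroupOf inferInstance W
        refine le_normalizer ((?_ : V.subgroupOf W ≤ (P : Subgroup W)) ?_)
        · exact (CfsgLib.PCore.le_pCore hn hVp.comap_subtype).trans (CfsgLib.PCore.pCore_le_sylow P)
        · rw [mem_subgroupOf]
          have hpg : IsPGroup p (zpowers ((z ^ m : W) : S)) := by
            refine IsPGroup.of_card_dvd_pow (n := a) ?_
            rw [Nat.card_zpowers]
            refine orderOf_dvd_of_pow_eq_one ?_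
            rw [← coe_pow, hzm, coe_one]
          have h1 : IsPGroup p ((zpowers ((z ^ m : W) : S)).subgroupOf (Cfsg.fittingSubgroup S)) :=
            hpg.comap_subtype
          obtain ⟨Q, hQ⟩ := h1.exists_le_sylow
          show ((z ^ m : W) : S) ∈ Cfsg.pCore p S
          rw [← CfsgLib.Fitting.sylow_fitting_eq_pCore Q]
          exact ⟨⟨_, hzF⟩, hQ (mem_subgroupOf.mpr (mem_zpowers _)), rfl⟩
      · -- the `p'`-part is central
        set w := (z ^ p ^ a : W)
        have hwF : ((w : W) : S) ∈ Cfsg.fittingSubgroup S := by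
          rw [coe_pow]; exact pow_mem (hWC hz) _
        refine centralizer_le_normalizer _ ?_
        rw [mem_centralizer_iff]
        intro y hy
        refine Subtype.ext ?_
        -- `w` lies in the product of the `O_r(S)`, `r ≠ p`
        have hwm : ((w : W) : S) ^ m = 1 := by
          rw [← coe_pow, ← pow_mul, ← hord, pow_orderOf_eq_one, coe_one]
        have hmem' : ((w : W) : S) ∈ centralizer (U : Set S) := by
          have hsup : zpowers ((w : W) : S) ≤ centralizer (U : Set S) := by
            refine CfsgLib.Tech46.le_of_forall_sylow_le fun q hq => ?_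
            haveI := Fact.mk hq
            let Q : Sylow q (zpowers ((w : W) : S)) := default
            refine ⟨(Q : Subgroup (zpowers ((w : W) : S))).map (zpowers ((w : W) : S)).subtype,
              map_subtype_le _, ?_, ?_⟩
            · by_cases hqp : q = p
              · have : (Q : Subgroup (zpowers ((w : W) : S))) = ⊥ := by
                  have hd : ¬ q ∣ Nat.card (zpowers ((w : W) : S)) := by
                    rw [Nat.card_zpowers]
                    exact fun h => hm (by rw [← hqp]; exact h.trans (orderOf_dvd_of_pow_eq_one hwm))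
                  obtain ⟨n, hn⟩ := IsPGroup.iff_card.mp Q.2
                  rcases Nat.eq_zero_or_pos n with hn0 | hn0
                  · exact card_eq_one.mp (by rw [hn, hn0, pow_zero])
                  · exact absurd ((dvd_pow_self q hn0.ne').trans
                      (hn ▸ card_subgroup_dvd_card _)) hd
                rw [this, Subgroup.map_bot]
                exact bot_le
              · have hQF : (Q : Subgroup (zpowers ((w : W) : S))).map _ ≤ Cfsg.fittingSubgroup S :=
                  (map_subtype_le _).trans (zpowers_le.mpr hwF)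
                have hQq : IsPGroup q (((Q : Subgroup (zpowers ((w : W) : S))).map
                    (zpowers ((w : W) : S)).subtype).subgroupOf (Cfsg.fittingSubgroup S)) :=
                  (Q.2.map _).comap_subtype
                obtain ⟨R, hR⟩ := hQq.exists_le_sylow
                refine le_trans (fun u hu => ?_) (le_centralizer_iff.mp (iInf_le (fun r : {r : ℕ // r.Prime ∧ r ≠ p} =>
                  centralizer (Cfsg.pCore r S : Set S)) ⟨q, hq, hqp⟩))
                rw [← CfsgLib.Fitting.sylow_fitting_eq_pCore R]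
                exact ⟨⟨u, hQF hu⟩, hR (mem_subgroupOf.mpr hu), rfl⟩
            · rw [relIndex, subgroupOf,
                comap_map_eq_self_of_injective (zpowers ((w : W) : S)).subtype_injective]
              exact Q.not_dvd_index
          exact hsup (mem_zpowers _)
        exact mem_centralizer_iff.mp hmem' (y : S) y.2.2
    -- the index of the normalizer is a power of `p` and prime to `p`
    rw [← normalizer_eq_top_iff, ← Subgroup.index_eq_one]
    by_contra hne
    obtain ⟨q, hq, hqd⟩ := Nat.exists_prime_and_dvd hne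
    have hd1 : (normalizer ((P : Subgroup W) : Set W)).index ∣ ((W ⊓ C).subgroupOf W).index :=
      index_dvd_of_le hle
    have hd2 : (normalizer ((P : Subgroup W) : Set W)).index ∣ (P : Subgroup W).index :=
      index_dvd_of_le le_normalizer
    obtain ⟨n, hn⟩ := IsPGroup.iff_card.mp (CfsgLib.PCore.pCore_isPGroup (p := p) (G := S ⧸ C))
    have hidx : ((W ⊓ C).subgroupOf W).index ∣ p ^ n := by
      show (W ⊓ C).relIndex W ∣ p ^ n
      rw [inf_comm, inf_relIndex_right, ← hn]
      have h1 : C.relIndex W = Nat.card (W.map (QuotientGroup.mk' C)) := by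
        rw [← relIndex_bot_left, ← Subgroup.map_bot (QuotientGroup.mk' C), relIndex_map_map,
          QuotientGroup.ker_mk', bot_sup_eq]
        exact (relIndex_sup_right W C).symm
      rw [h1]
      exact card_dvd_of_le (map_le_iff_le_comap.mpr inf_le_left)
    have hqp : q = p :=
      (Nat.prime_dvd_prime_iff_eq hq hp.out).mp (hq.dvd_of_dvd_pow (hqd.trans (hd1.trans hidx)))
    have hpd : p ∣ (normalizer ((P : Subgroup W) : Set W)).index := by
      rw [hqp] at hqd; exact hqd
    exact P.not_dvd_index (hpd.trans hd2)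
  have hsub : ((P : Subgroup W).map W.subtype).IsSubnormal := by
    refine IsSubnormal.step _ W (map_subtype_le _) hWn.isSubnormal ?_
    rwa [subgroupOf, comap_map_eq_self_of_injective W.subtype_injective]
  exact CfsgLib.Fitting.pCore_le_fitting hp.out
    (CfsgLib.PCore.le_pCore_of_isSubnormal hsub (P.2.map _)
      ⟨⟨x, hxW⟩, hP (mem_subgroupOf.mpr (mem_zpowers x)), rfl⟩)

/-- The case `O_{π'}(S) = 1`. -/
theorem centralizer_le_of_core (π : Set ℕ) (h2 : 2 ∉ π) (h3 : 3 ∉ π) {H : Subgroup S}
    (hH : Cfsg.IsPiHall π H) (hO : Cfsg.piCore πᶜ S = ⊥) {A : Subgroup S}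
    (hA : Cfsg.IsSCN ((Cfsg.fittingSubgroup H).map H.subtype) A) :
    centralizer (A : Set S) ≤ A := by
  haveI := CfsgLib.Fitting.fitting_normal (G := S)
  set F := Cfsg.fittingSubgroup S
  set FH := (Cfsg.fittingSubgroup H).map H.subtype
  obtain ⟨hAFH, hnA, hcA⟩ := hA
  have hFpi : PiNat π (Nat.card F) := by
    intro q hq hd
    haveI := Fact.mk hq
    by_contra hqπ
    let Q : Sylow q F := default
    have hQ := CfsgLib.Fitting.sylow_fitting_eq_pCore Q
    have hbot : Cfsg.pCore q S = ⊥ := by
      rw [eq_bot_iff, ← hO]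
      refine le_piCore (Cfsg.pCore_normal q S) fun r hr hrd => ?_
      obtain ⟨n, hn⟩ := IsPGroup.iff_card.mp (CfsgLib.PCore.pCore_isPGroup (p := q) (G := S))
      rw [hn] at hrd
      rw [(Nat.prime_dvd_prime_iff_eq hr hq).mp (hr.dvd_of_dvd_pow hrd)]
      exact hqπ
    rw [hbot, Subgroup.map_eq_bot_iff_of_injective _ F.subtype_injective] at hQ
    exact Q.ne_bot_of_dvd_card hd hQ
  have hFH : F ≤ H := by
    have hc : H.relIndex (H ⊔ F) = 1 := by
      have h1 : H.relIndex (H ⊔ F) ∣ Nat.card F := by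
        have := card_sup_dvd_of_normal H F
        rw [← card_mul_relIndex_of_le (le_sup_left : H ≤ H ⊔ F)] at this
        exact (Nat.mul_dvd_mul_iff_left Nat.card_pos).mp this
      have h2 : H.relIndex (H ⊔ F) ∣ H.index := relIndex_dvd_index_of_le le_sup_left
      exact Nat.eq_one_of_dvd_coprimes (hFpi.coprime hH.2) h1 h2
    exact le_sup_right.trans (relIndex_eq_one.mp hc)
  have hFFH : F ≤ FH := by
    intro y hy
    refine ⟨⟨y, hFH hy⟩, ?_, rfl⟩
    haveI : Group.IsNilpotent F := CfsgLib.Fitting.fitting_isNilpotent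
    haveI : Group.IsNilpotent (F.subgroupOf H) :=
      Group.nilpotent_of_mulEquiv (subgroupOfEquivOfLe hFH).symm
    exact CfsgLib.Fitting.le_fitting (Subgroup.Normal.subgroupOf inferInstance H) inferInstance
      (mem_subgroupOf.mpr hy)
  have hAC : A ≤ centralizer (A : Set S) := hcA.ge.trans inf_le_right
  have hAH : A ≤ H := hAFH.trans (map_subtype_le _)
  -- commutators of elements centralizing `A` with `F(S)`
  have hcomm : ∀ x ∈ centralizer (A : Set S), ∀ g ∈ F, ⁅g, x⁆ ∈ A := by
    intro x hx g hg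
    rw [← hcA]
    refine ⟨hFFH ?_, ?_⟩
    · have := mul_mem hg ((inferInstance : F.Normal).conj_mem g⁻¹ (inv_mem hg) x)
      rw [commutatorElement_def]
      simpa [mul_assoc] using this
    · have hgn : g ∈ normalizer (centralizer (A : Set S) : Set S) :=
        CfsgLib.Techniques.normalizer_le_normalizer_centralizer A (hnA (hFFH hg))
      rw [commutatorElement_def]
      exact (centralizer (A : Set S)).mul_mem ((mem_normalizer_iff.mp hgn x).mp hx)
        ((centralizer (A : Set S)).inv_mem hx)
  have hCF : centralizer (A : Set S) ≤ F := by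
    refine CfsgLib.Tech46.le_of_forall_sylow_le fun q hq => ?_
    haveI := Fact.mk hq
    let Q : Sylow q (centralizer (A : Set S)) := default
    refine ⟨(Q : Subgroup (centralizer (A : Set S))).map (centralizer (A : Set S)).subtype,
      map_subtype_le _, ?_, ?_⟩
    · rintro _ ⟨x, hx, rfl⟩
      obtain ⟨k, hk⟩ := Q.2 ⟨x, hx⟩
      have hxk : (x : S) ^ q ^ k = 1 := by
        simpa using congrArg (fun y : Q => ((y : centralizer (A : Set S)) : S)) hk
      by_cases hqπ : q ∈ π
      · have h5 : 5 ≤ q := by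
          have h22 := hq.two_le
          have h4 : q ≠ 4 := fun e => absurd (e ▸ hq) (by norm_num)
          have : q ≠ 2 := fun e => h2 (e ▸ hqπ)
          have : q ≠ 3 := fun e => h3 (e ▸ hqπ)
          omega
        exact mem_fitting_of_quadratic h5 ⟨k, hxk⟩ x.2 fun g hg y hy =>
          hcomm y ((zpowers_le.mpr x.2 : zpowers (x : S) ≤ _) hy) g hg
      · -- such elements centralize the Fitting subgroup
        refine CfsgLib.Fitting.centralizer_fitting_le ?_
        have hle : F ≤ centralizer ({(x : S)} : Set S) := by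
          show Cfsg.fittingSubgroup S ≤ _
          rw [CfsgLib.Fitting.fitting_eq_iSup_pCore]
          refine iSup_le fun r f hf => mem_centralizer_singleton_iff.mpr ?_
          have hr := Nat.prime_of_mem_primeFactors r.2
          by_cases hrq : (r : ℕ) = q
          · have hf1 : f = 1 := by
              by_contra hne
              haveI := Fact.mk hr
              apply hqπ
              rw [← hrq]
              obtain ⟨m, hm⟩ := CfsgLib.PCore.pCore_isPGroup (p := (r : ℕ)) (G := S) ⟨f, hf⟩
              have hm' : f ^ (r : ℕ) ^ m = 1 := by simpa using congrArg Subtype.val hm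
              obtain ⟨i, _, hi⟩ := (Nat.dvd_prime_pow hr).mp (orderOf_dvd_of_pow_eq_one hm')
              have hi0 : i ≠ 0 := fun e => hne (orderOf_eq_one_iff.mp (by rw [hi, e, pow_zero]))
              refine hFpi _ hr ((dvd_pow_self (r : ℕ) hi0).trans (hi ▸ ?_))
              exact orderOf_dvd_natCard F (CfsgLib.Fitting.pCore_le_fitting hr hf)
            rw [hf1, one_mul, mul_one]
          · exact (commute_of_ne hq hr hrq ⟨k, hxk⟩ x.2 (hcomm _ x.2) hf).symm.eq
        rw [mem_centralizer_iff]
        exact fun f hf => mem_centralizer_singleton_iff.mp (hle hf)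
    · rw [relIndex, subgroupOf, comap_map_eq_self_of_injective (centralizer (A : Set S)).subtype_injective]
      exact Q.not_dvd_index
  intro x hx
  rw [← hcA]
  exact ⟨hFFH (hCF hx), hx⟩

/-- The general case. -/
theorem exists_complement (π : Set ℕ) (h2 : 2 ∉ π) (h3 : 3 ∉ π) (H : Subgroup S)
    (hH : Cfsg.IsPiHall π H) (A : Subgroup S)
    (hA : Cfsg.IsSCN ((Cfsg.fittingSubgroup H).map H.subtype) A) :
    ∃ D : Subgroup S, D ≤ centralizer (A : Set S) ∧
      (∀ c ∈ centralizer (A : Set S), ∀ d ∈ D, c * d * c⁻¹ ∈ D) ∧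
      A ⊓ D = ⊥ ∧ A ⊔ D = centralizer (A : Set S) ∧
      ∀ q : ℕ, q.Prime → q ∣ Nat.card D → q ∉ π := by
  set O := Cfsg.piCore πᶜ S with hOdef
  haveI hOn : O.Normal := inferInstance
  have hOpi : PiNat πᶜ (Nat.card O) := piNat_card_piCore _
  have hAC : A ≤ centralizer (A : Set S) := hA.2.2.ge.trans inf_le_right
  have hAH : A ≤ H := hA.1.trans (map_subtype_le _)
  have hHO : H ⊓ O = ⊥ := by
    rw [← card_eq_one]
    refine Nat.eq_one_iff_not_exists_prime_dvd.mpr fun q hq hd => ?_
    exact hOpi q hq (hd.trans (card_dvd_of_le inf_le_right)) (hH.1 q hq (hd.trans (card_dvd_of_le inf_le_left)))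
  refine ⟨centralizer (A : Set S) ⊓ O, inf_le_left, fun c hc d hd =>
    ⟨(centralizer (A : Set S)).mul_mem ((centralizer (A : Set S)).mul_mem hc hd.1)
      ((centralizer (A : Set S)).inv_mem hc), hOn.conj_mem d hd.2 c⟩, ?_, ?_, fun q hq hd hqπ =>
      hOpi q hq (hd.trans (card_dvd_of_le inf_le_right)) hqπ⟩
  · rw [eq_bot_iff, ← hHO]
    exact le_inf (inf_le_left.trans hAH) (inf_le_right.trans inf_le_right)
  refine le_antisymm (sup_le hAC inf_le_left) fun x hx => ?_
  set φ := QuotientGroup.mk' O with hφ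
  have hφs : Function.Surjective φ := QuotientGroup.mk'_surjective O
  have hinj : Function.Injective (φ.comp H.subtype) := by
    rw [← MonoidHom.ker_eq_bot_iff, eq_bot_iff]
    intro h hh
    have : (h : S) ∈ H ⊓ O := ⟨h.2, (QuotientGroup.eq_one_iff (h : S)).mp hh⟩
    rw [hHO, mem_bot] at this
    exact mem_bot.mpr (Subtype.ext this)
  let e : H ≃* H.map φ :=
    MulEquiv.ofBijective ((φ.comp H.subtype).codRestrict (H.map φ) (fun h => ⟨h, h.2, rfl⟩))
      ⟨fun a b hab => hinj (congrArg Subtype.val hab),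
        fun ⟨y, h, hh, he⟩ => ⟨⟨h, hh⟩, Subtype.ext he⟩⟩
  have hH' : Cfsg.IsPiHall π (H.map φ) := by
    refine ⟨fun q hq hd => hH.1 q hq ?_, fun q hq hqπ hd => hH.2 q hq hqπ (hd.trans (index_map_dvd _ hφs))⟩
    rwa [Nat.card_congr e.toEquiv]
  have hO' : Cfsg.piCore πᶜ (S ⧸ O) = ⊥ := by
    set N := (Cfsg.piCore πᶜ (S ⧸ O)).comap φ
    have hN : N ≤ O := by
      refine le_piCore (Subgroup.Normal.comap inferInstance _) ?_
      rw [CfsgLib.PCore.card_comap_mk']
      first
        | exact hOpi.mul (piNat_card_piCore _)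
        | exact (piNat_card_piCore _).mul hOpi
    rw [← map_comap_eq_self_of_surjective hφs (Cfsg.piCore πᶜ (S ⧸ O)), eq_bot_iff]
    refine (map_mono hN).trans ?_
    rw [QuotientGroup.map_mk'_self]
  have hFmap : (Cfsg.fittingSubgroup (H.map φ)).map (H.map φ).subtype =
      ((Cfsg.fittingSubgroup H).map H.subtype).map φ := by
    rw [← CfsgLib.Fitting.fitting_map_mulEquiv e, Subgroup.map_map, Subgroup.map_map]
    rfl
  have hA' : Cfsg.IsSCN ((Cfsg.fittingSubgroup (H.map φ)).map (H.map φ).subtype) (A.map φ) := by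
    rw [hFmap]
    refine ⟨map_mono hA.1, ?_, le_antisymm ?_ ?_⟩
    · exact (map_mono hA.2.1).trans (le_normalizer_map φ)
    · rintro _ ⟨⟨f, hf, rfl⟩, hc⟩
      refine mem_map_of_mem φ ?_
      rw [← hA.2.2]
      refine ⟨hf, mem_centralizer_iff.mpr fun a ha => ?_⟩
      have h := mem_centralizer_iff.mp hc (φ a) (mem_map_of_mem φ ha)
      exact congrArg Subtype.val (@hinj (⟨a, hAH ha⟩ * ⟨f, (map_subtype_le _) hf⟩)
        (⟨f, (map_subtype_le _) hf⟩ * ⟨a, hAH ha⟩) (by simpa using h))
    · refine le_inf (map_mono hA.1) ?_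
      rintro _ ⟨a, ha, rfl⟩
      rw [mem_centralizer_iff]
      rintro _ ⟨b, hb, rfl⟩
      rw [← map_mul, ← map_mul, mem_centralizer_iff.mp (hAC ha) b hb]
  have hx' : φ x ∈ centralizer ((A.map φ : Subgroup (S ⧸ O)) : Set (S ⧸ O)) := by
    rw [mem_centralizer_iff]
    rintro _ ⟨b, hb, rfl⟩
    rw [← map_mul, ← map_mul, mem_centralizer_iff.mp hx b hb]
  obtain ⟨a, ha, hax⟩ := centralizer_le_of_core π h2 h3 hH' hO' hA' hx'
  have ho : a⁻¹ * x ∈ centralizer (A : Set S) ⊓ O :=
    ⟨(centralizer (A : Set S)).mul_mem ((centralizer (A : Set S)).inv_mem (hAC ha)) hx,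
      QuotientGroup.eq.mp hax⟩
  have := mul_mem_sup (S := A) ha ho
  simpa using this

end Cfsg.Tech46.SCNHall
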